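import Cfsg.Agent.Fisch.St.Defs
import Cfsg.Agent.Bt.Res

set_option autoImplicit false
set_option maxRecDepth 1000000

namespace CF.Ec.J2

open CF.Comp CF.Fisch CF.Bt

noncomputable def X_0 : Net := (Net.cons (nat_lit 1) (nat_lit 0x1454504504015501544550400) (Net.cons (nat_lit 2) (nat_lit 0x132333321333130213001020) (Net.cons (nat_lit 4) (nat_lit 0x70f000d0009040204080104) (Net.cons (nat_lit 8) (nat_lit 0xd900f90011007c0055000c) (Net.cons (nat_lit 16) (nat_lit 0xa089000022260000000d) (Net.cons (nat_lit 32) (nat_lit 0x2000000007609d520) (Net.cons (nat_lit 64) (nat_lit 0x6769bfd38) (Net.cons (nat_lit 32) (nat_lit 0xf0000000000b53579) (Net.cons (nat_lit 16) (nat_lit 0x78950000b74900006ff9) (Net.cons (nat_lit 8) (nat_lit 0xaa00ed002f00be00d8002f) (Net.cons (nat_lit 4) (nat_lit 0xe0001090e0d05010706040d) (Net.cons (nat_lit 2) (nat_lit 0x3211101123002022210032020) (Net.cons (nat_lit 1) (nat_lit 0x4011544550501545441500414) Net.nil)))))))))))))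
noncomputable def X_1 : Net := (Net.cons (nat_lit 1) (nat_lit 0x455040410551441445554400) (Net.cons (nat_lit 2) (nat_lit 0x1112103122113221012222310) (Net.cons (nat_lit 4) (nat_lit 0x809030609080904040c00) (Net.cons (nat_lit 8) (nat_lit 0xa500fa003700f500480000) (Net.cons (nat_lit 16) (nat_lit 0x10d0000013a00000000a) (Net.cons (nat_lit 32) (nat_lit 0xd00000000b0842f40) (Net.cons (nat_lit 64) (nat_lit 0x7b7cd2ffa) (Net.cons (nat_lit 32) (nat_lit 0xe00000000f5683092) (Net.cons (nat_lit 16) (nat_lit 0xe24d0000a9940000a5dc) (Net.cons (nat_lit 8) (nat_lit 0x6800e000bc00f500240026) (Net.cons (nat_lit 4) (nat_lit 0x90d0206090b0b0508030c02) (Net.cons (nat_lit 2) (nat_lit 0x3200330102022100233111020) (Net.cons (nat_lit 1) (nat_lit 0x4110455145401044005044054) Net.nil)))))))))))))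
noncomputable def X : List Net := [X_0, X_1]
noncomputable def X1_0 : Net := (Net.cons (nat_lit 1) (nat_lit 0x5550455505441004410045414) (Net.cons (nat_lit 2) (nat_lit 0x3332111021323202020323220) (Net.cons (nat_lit 4) (nat_lit 0x10200080704080e0206000d) (Net.cons (nat_lit 8) (nat_lit 0x4800f3002f002700680008) (Net.cons (nat_lit 16) (nat_lit 0xe0840000610600000008) (Net.cons (nat_lit 32) (nat_lit 0x20000000096068000) (Net.cons (nat_lit 64) (nat_lit 0x3fe2f8a9d) (Net.cons (nat_lit 32) (nat_lit 0xd000000001642e72e) (Net.cons (nat_lit 16) (nat_lit 0x8baf0000bfd600009af1) (Net.cons (nat_lit 8) (nat_lit 0x600b30004002e00b40047) (Net.cons (nat_lit 4) (nat_lit 0x4080c0806040d08040b030c) (Net.cons (nat_lit 2) (nat_lit 0x2300222020133211100312101) (Net.cons (nat_lit 1) (nat_lit 0x5414501145401541550110100) Net.nil)))))))))))))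
noncomputable def X1_1 : Net := (Net.cons (nat_lit 1) (nat_lit 0x1410400051155111401001400) (Net.cons (nat_lit 2) (nat_lit 0x1213112313032010120300) (Net.cons (nat_lit 4) (nat_lit 0x30d020f0200000a04020c03) (Net.cons (nat_lit 8) (nat_lit 0xda007900c000ec00030003) (Net.cons (nat_lit 16) (nat_lit 0x36500000d44500000006) (Net.cons (nat_lit 32) (nat_lit 3254663456) (Net.cons (nat_lit 64) (nat_lit 0x8c5fe3b63) (Net.cons (nat_lit 32) (nat_lit 0x700000000219b0ee8) (Net.cons (nat_lit 16) (nat_lit 0xcfb300006e0a0000c86b) (Net.cons (nat_lit 8) (nat_lit 0xd60072002800e8002f001e) (Net.cons (nat_lit 4) (nat_lit 0x606010a03090c0400060802) (Net.cons (nat_lit 2) (nat_lit 0x2102102203320202033032100) (Net.cons (nat_lit 1) (nat_lit 0x1545005555410454045050055) Net.nil)))))))))))))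
noncomputable def X1_2 : Net := (Net.cons (nat_lit 1) (nat_lit 0x4555501515440511001450140) (Net.cons (nat_lit 2) (nat_lit 0x12222232300102330323200) (Net.cons (nat_lit 4) (nat_lit 0x90c060b0002080002030201) (Net.cons (nat_lit 8) (nat_lit 0x140093000a009f000b000e) (Net.cons (nat_lit 16) (nat_lit 0x39dc0000123400000000) (Net.cons (nat_lit 32) (nat_lit 1711855632) (Net.cons (nat_lit 64) (nat_lit 0x576acf953) (Net.cons (nat_lit 32) (nat_lit 0xb000000004ebd3ed3) (Net.cons (nat_lit 16) (nat_lit 0xd6cd00008514000010db) (Net.cons (nat_lit 8) (nat_lit 0x7100b800ae00b300f3009f) (Net.cons (nat_lit 4) (nat_lit 0x60a0a0901060f090c090201) (Net.cons (nat_lit 2) (nat_lit 0x3122233311231102233121003) (Net.cons (nat_lit 1) (nat_lit 0x144451540501105055405045) Net.nil)))))))))))))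
noncomputable def X1_3 : Net := (Net.cons (nat_lit 1) (nat_lit 0x1455105114501554401054050) (Net.cons (nat_lit 2) (nat_lit 0x3111230121232120203102120) (Net.cons (nat_lit 4) (nat_lit 0xc0b0b020a0b060d09050001) (Net.cons (nat_lit 8) (nat_lit 0x4200aa0018000a00890006) (Net.cons (nat_lit 16) (nat_lit 0x54550000062300000009) (Net.cons (nat_lit 32) (nat_lit 0x30000000010440000) (Net.cons (nat_lit 64) (nat_lit 0x870d7c7fb) (Net.cons (nat_lit 32) (nat_lit 0xf000000000b1fd4e4) (Net.cons (nat_lit 16) (nat_lit 0xa71d000040ae0000156a) (Net.cons (nat_lit 8) (nat_lit 0x91007800c4002a00b0009a) (Net.cons (nat_lit 4) (nat_lit 0x402020d060b0e0605040901) (Net.cons (nat_lit 2) (nat_lit 0x1101220201223123123132311) (Net.cons (nat_lit 1) (nat_lit 0x1444114104501415440004155) Net.nil)))))))))))))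
noncomputable def X1_4 : Net := (Net.cons (nat_lit 1) (nat_lit 0x4414404141041105010514010) (Net.cons (nat_lit 2) (nat_lit 0x2301320111210200112000200) (Net.cons (nat_lit 4) (nat_lit 0x60b0c070902060000040909) (Net.cons (nat_lit 8) (nat_lit 0x84005c00e0008b00000000) (Net.cons (nat_lit 16) (nat_lit 0x38880000a00100000000) (Net.cons (nat_lit 32) (nat_lit 709134544) (Net.cons (nat_lit 64) (nat_lit 0x63a5ca8d0) (Net.cons (nat_lit 32) (nat_lit 0x900000000824da8d0) (Net.cons (nat_lit 16) (nat_lit 0xdd2800000921000023c0) (Net.cons (nat_lit 8) (nat_lit 0x400d600e8000d00080018) (Net.cons (nat_lit 4) (nat_lit 0xe0b0c07090b06080c06090b) (Net.cons (nat_lit 2) (nat_lit 0x2301320111212200132000200) (Net.cons (nat_lit 1) (nat_lit 0x414404141051545110514010) Net.nil)))))))))))))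
noncomputable def X1_5 : Net := (Net.cons (nat_lit 1) (nat_lit 0x545450451515504000010014) (Net.cons (nat_lit 2) (nat_lit 0x1000230331233021201000000) (Net.cons (nat_lit 4) (nat_lit 0x6090006020c0f0300000100) (Net.cons (nat_lit 8) (nat_lit 0x6c00200089000400000000) (Net.cons (nat_lit 16) (nat_lit 0x20600000704d00000000) (Net.cons (nat_lit 32) (nat_lit 730010464) (Net.cons (nat_lit 64) (nat_lit 0xc7ba33360) (Net.cons (nat_lit 32) (nat_lit 0x300000000eb831320) (Net.cons (nat_lit 16) (nat_lit 0xa37c0000371d00004753) (Net.cons (nat_lit 8) (nat_lit 0x2c00e400c9004c0041005c) (Net.cons (nat_lit 4) (nat_lit 0x6090402060c0f0700010001) (Net.cons (nat_lit 2) (nat_lit 0x1000230331233021200101121) (Net.cons (nat_lit 1) (nat_lit 0x145440551515504000050014) Net.nil)))))))))))))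
noncomputable def X1_6 : Net := (Net.cons (nat_lit 1) (nat_lit 0x5450000010010104101004514) (Net.cons (nat_lit 2) (nat_lit 0x213322010133233100320000) (Net.cons (nat_lit 4) (nat_lit 0xc0606070a0c090700010c09) (Net.cons (nat_lit 8) (nat_lit 0xeb002b00e2006e00900005) (Net.cons (nat_lit 16) (nat_lit 0x610c00001cf600000001) (Net.cons (nat_lit 32) (nat_lit 1426268576) (Net.cons (nat_lit 64) (nat_lit 0xfd52ff7f1) (Net.cons (nat_lit 32) (nat_lit 0x900000000052afc5a) (Net.cons (nat_lit 16) (nat_lit 0x5d830000f23e00006df5) (Net.cons (nat_lit 8) (nat_lit 0x1200590086001b002300ca) (Net.cons (nat_lit 4) (nat_lit 0xa0d020e020e0c070d0b0508) (Net.cons (nat_lit 2) (nat_lit 0x1112020012013120202113202) (Net.cons (nat_lit 1) (nat_lit 0x5404415155444040110155511) Net.nil)))))))))))))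
noncomputable def X1_7 : Net := (Net.cons (nat_lit 1) (nat_lit 0x1000101150511150400401400) (Net.cons (nat_lit 2) (nat_lit 0x3121003010000323312010000) (Net.cons (nat_lit 4) (nat_lit 0xe02060b0c07030c0f010400) (Net.cons (nat_lit 8) (nat_lit 0xbd00d900d200c100140004) (Net.cons (nat_lit 16) (nat_lit 0xe955000041c400000005) (Net.cons (nat_lit 32) (nat_lit 2151694608) (Net.cons (nat_lit 64) (nat_lit 0x582796914) (Net.cons (nat_lit 32) (nat_lit 0xe00000000dc57c6e6) (Net.cons (nat_lit 16) (nat_lit 0xb8840000059c00004455) (Net.cons (nat_lit 8) (nat_lit 0xfc00bc00b3008100d40045) (Net.cons (nat_lit 4) (nat_lit 0xe02060b0c070b0e0f010402) (Net.cons (nat_lit 2) (nat_lit 0x3121003010000323312010000) (Net.cons (nat_lit 1) (nat_lit 0x1000101150511150400401400) Net.nil)))))))))))))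
noncomputable def X1_8 : Net := (Net.cons (nat_lit 1) (nat_lit 0x140401400114554554401454) (Net.cons (nat_lit 2) (nat_lit 0x2020303310021230001302100) (Net.cons (nat_lit 4) (nat_lit 0x10c0808070f0f07040c0c) (Net.cons (nat_lit 8) (nat_lit 0x4300440048008200840000) (Net.cons (nat_lit 16) (nat_lit 0xcbd1000015840000000b) (Net.cons (nat_lit 32) (nat_lit 0x40000000018884350) (Net.cons (nat_lit 64) (nat_lit 0xf1ca9e350) (Net.cons (nat_lit 32) (nat_lit 0x2000000009df7b9a0) (Net.cons (nat_lit 16) (nat_lit 0xa248000015a200000f4d) (Net.cons (nat_lit 8) (nat_lit 0xac002200b10046008200b4) (Net.cons (nat_lit 4) (nat_lit 0x80301010e0f0f0e020303) (Net.cons (nat_lit 2) (nat_lit 0x2323030013321203331032133) (Net.cons (nat_lit 1) (nat_lit 0x5415154155441001001154101) Net.nil)))))))))))))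
noncomputable def X1_9 : Net := (Net.cons (nat_lit 1) (nat_lit 0x501440145045404500440040) (Net.cons (nat_lit 2) (nat_lit 0x2211220013033101233000) (Net.cons (nat_lit 4) (nat_lit 0x70c06000309010a0d0a0a0c) (Net.cons (nat_lit 8) (nat_lit 0x1c0017006a00a800050007) (Net.cons (nat_lit 16) (nat_lit 0x5334000000dc00000004) (Net.cons (nat_lit 32) (nat_lit 0x20000000041692800) (Net.cons (nat_lit 64) (nat_lit 0x1c179be47) (Net.cons (nat_lit 32) (nat_lit 0xe0000000056651e9a) (Net.cons (nat_lit 16) (nat_lit 0xfe1e0000613e0000a329) (Net.cons (nat_lit 8) (nat_lit 0x380032002000f400650097) (Net.cons (nat_lit 4) (nat_lit 0x50a040801030a0e0d000b07) (Net.cons (nat_lit 2) (nat_lit 0x22213022313313210031211) (Net.cons (nat_lit 1) (nat_lit 0x1501004141055540501014515) Net.nil)))))))))))))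
noncomputable def X1_10 : Net := (Net.cons (nat_lit 1) (nat_lit 0x4401510411111404405405000) (Net.cons (nat_lit 2) (nat_lit 0x20102031032102233332200) (Net.cons (nat_lit 4) (nat_lit 0xa0a0d030103000306010c00) (Net.cons (nat_lit 8) (nat_lit 0xb700d500a8004000c00002) (Net.cons (nat_lit 16) (nat_lit 0xff00000c00100000004) (Net.cons (nat_lit 32) (nat_lit 0x800000000821000a0) (Net.cons (nat_lit 64) (nat_lit 0xf83523ea0) (Net.cons (nat_lit 32) (nat_lit 3746663550) (Net.cons (nat_lit 16) (nat_lit 0x32b000075910000e168) (Net.cons (nat_lit 8) (nat_lit 0xee0078001c00cd006900c6) (Net.cons (nat_lit 4) (nat_lit 0x90f09010c03040106050608) (Net.cons (nat_lit 2) (nat_lit 0x3301023003323301033112232) (Net.cons (nat_lit 1) (nat_lit 0x115500550001040515110544) Net.nil)))))))))))))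
noncomputable def X1_11 : Net := (Net.cons (nat_lit 1) (nat_lit 0x404144114554500544100440) (Net.cons (nat_lit 2) (nat_lit 0x1031201300202030033210120) (Net.cons (nat_lit 4) (nat_lit 0x603020d000508000e080b04) (Net.cons (nat_lit 8) (nat_lit 0xe0005e003100ad00950004) (Net.cons (nat_lit 16) (nat_lit 0x8184000068c30000000d) (Net.cons (nat_lit 32) (nat_lit 1160546304) (Net.cons (nat_lit 64) (nat_lit 0x9473ceb9d) (Net.cons (nat_lit 32) (nat_lit 0x500000000571820de) (Net.cons (nat_lit 16) (nat_lit 0x28000000b3e700001da8) (Net.cons (nat_lit 8) (nat_lit 0x500007008100af00a60011) (Net.cons (nat_lit 4) (nat_lit 0xf030a0c080d0a00050a0004) (Net.cons (nat_lit 2) (nat_lit 0x1033313333202133110233200) (Net.cons (nat_lit 1) (nat_lit 0x5104000114501500141500510) Net.nil)))))))))))))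
noncomputable def X1_12 : Net := (Net.cons (nat_lit 1) (nat_lit 0x1155054055550040041010400) (Net.cons (nat_lit 2) (nat_lit 0x3102100311110000202010300) (Net.cons (nat_lit 4) (nat_lit 0x20706070103010409000b00) (Net.cons (nat_lit 8) (nat_lit 0xc2007f00de005000010003) (Net.cons (nat_lit 16) (nat_lit 0x21860000140c00000009) (Net.cons (nat_lit 32) (nat_lit 275514208) (Net.cons (nat_lit 64) (nat_lit 0x7327c53e3) (Net.cons (nat_lit 32) (nat_lit 0xb00000000047e036b) (Net.cons (nat_lit 16) (nat_lit 0x34930000449c00001909) (Net.cons (nat_lit 8) (nat_lit 0xc6006e00ce004100910093) (Net.cons (nat_lit 4) (nat_lit 0x20606070103010509040b00) (Net.cons (nat_lit 2) (nat_lit 0x3113131211130101202010030) (Net.cons (nat_lit 1) (nat_lit 0x1555454055550040141010150) Net.nil)))))))))))))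
noncomputable def X1_13 : Net := (Net.cons (nat_lit 1) (nat_lit 0x144411104450451040150044) (Net.cons (nat_lit 2) (nat_lit 0x2200002001200000200200000) (Net.cons (nat_lit 4) (nat_lit 0x607010b06030e0409010f00) (Net.cons (nat_lit 8) (nat_lit 0x4b003c00bc004c00010000) (Net.cons (nat_lit 16) (nat_lit 0x42000000204000000001) (Net.cons (nat_lit 32) (nat_lit 0x10000000092005030) (Net.cons (nat_lit 64) (nat_lit 2600489521) (Net.cons (nat_lit 32) (nat_lit 0xf00000000b2605c30) (Net.cons (nat_lit 16) (nat_lit 0x72c0000030cf00000001) (Net.cons (nat_lit 8) (nat_lit 0x4b003c00bc004c009700f0) (Net.cons (nat_lit 4) (nat_lit 0x607010b06030e0409010f00) (Net.cons (nat_lit 2) (nat_lit 0x2200002001300000201210212) (Net.cons (nat_lit 1) (nat_lit 0x544451104454451040150514) Net.nil)))))))))))))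
noncomputable def X1_14 : Net := (Net.cons (nat_lit 1) (nat_lit 0x4500545001144040554000000) (Net.cons (nat_lit 2) (nat_lit 0x2032320122210301230000000) (Net.cons (nat_lit 4) (nat_lit 0x9010e010e0d0201090500) (Net.cons (nat_lit 8) (nat_lit 0x8600a3004300a100050000) (Net.cons (nat_lit 16) (nat_lit 0x4470000208500000000) (Net.cons (nat_lit 32) (nat_lit 0x10000000000566480) (Net.cons (nat_lit 64) (nat_lit 0x120566480) (Net.cons (nat_lit 32) (nat_lit 0x700000000a0f74480) (Net.cons (nat_lit 16) (nat_lit 0xb767000049cd00002d40) (Net.cons (nat_lit 8) (nat_lit 0x8600eb000300e100150054) (Net.cons (nat_lit 4) (nat_lit 0x809010e010e0f02050d010c) (Net.cons (nat_lit 2) (nat_lit 0x2032320122310301230000000) (Net.cons (nat_lit 1) (nat_lit 0x4500545001144040554000001) Net.nil)))))))))))))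
noncomputable def X1_15 : Net := (Net.cons (nat_lit 1) (nat_lit 0x41154505510455000540400) (Net.cons (nat_lit 2) (nat_lit 0x3222001332232110200020) (Net.cons (nat_lit 4) (nat_lit 0x1090f0e0200080d01050408) (Net.cons (nat_lit 8) (nat_lit 0x98007e000100c000180000) (Net.cons (nat_lit 16) (nat_lit 0x8053000044e600000008) (Net.cons (nat_lit 32) (nat_lit 2316114800) (Net.cons (nat_lit 64) (nat_lit 2316114800) (Net.cons (nat_lit 32) (nat_lit 0xf00000000e9ee3f78) (Net.cons (nat_lit 16) (nat_lit 0x6c6e000002da0000d028) (Net.cons (nat_lit 8) (nat_lit 0x3f00cb001e00ee000800a0) (Net.cons (nat_lit 4) (nat_lit 0xe0208040202040b0e000008) (Net.cons (nat_lit 2) (nat_lit 0x2301333221331003332113020) (Net.cons (nat_lit 1) (nat_lit 0x1115505045441554154151400) Net.nil)))))))))))))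
noncomputable def X1_16 : Net := (Net.cons (nat_lit 1) (nat_lit 0x1401454550000010005144440) (Net.cons (nat_lit 2) (nat_lit 0x2001000122102300031310000) (Net.cons (nat_lit 4) (nat_lit 0x3030f0e0f040002010d0504) (Net.cons (nat_lit 8) (nat_lit 0x56009f005c00c100840002) (Net.cons (nat_lit 16) (nat_lit 0x403d0000245a00000005) (Net.cons (nat_lit 32) (nat_lit 67455728) (Net.cons (nat_lit 64) (nat_lit 67455728) (Net.cons (nat_lit 32) (nat_lit 0xf000000003fffcff5) (Net.cons (nat_lit 16) (nat_lit 0x15de0000705f0000c403) (Net.cons (nat_lit 8) (nat_lit 0x34005100da00bf00b8003e) (Net.cons (nat_lit 4) (nat_lit 0x90d0700010f08020b0c0f0e) (Net.cons (nat_lit 2) (nat_lit 0x200320301002211122223) (Net.cons (nat_lit 1) (nat_lit 0x405445450000004005154440) Net.nil)))))))))))))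
noncomputable def X1_17 : Net := (Net.cons (nat_lit 1) (nat_lit 0x4010440145055101004140040) (Net.cons (nat_lit 2) (nat_lit 0x3111020111031222000022200) (Net.cons (nat_lit 4) (nat_lit 0x30605080404080304090200) (Net.cons (nat_lit 8) (nat_lit 0x1400e50000004d00040000) (Net.cons (nat_lit 16) (nat_lit 0x266e0000226d00000000) (Net.cons (nat_lit 32) (nat_lit 914364896) (Net.cons (nat_lit 64) (nat_lit 914627040) (Net.cons (nat_lit 32) (nat_lit 0xf0000000056ef5be0) (Net.cons (nat_lit 16) (nat_lit 0xc6570000843b00009fb0) (Net.cons (nat_lit 8) (nat_lit 0x3200aa009900fb00000024) (Net.cons (nat_lit 4) (nat_lit 0xc0608050606010e000b0006) (Net.cons (nat_lit 2) (nat_lit 0x111323111301222332302023) (Net.cons (nat_lit 1) (nat_lit 0x1545115410500454550405405) Net.nil)))))))))))))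
noncomputable def X1_18 : Net := (Net.cons (nat_lit 1) (nat_lit 0x1411514514041444545040100) (Net.cons (nat_lit 2) (nat_lit 0x2310021233120133120010000) (Net.cons (nat_lit 4) (nat_lit 0x30a0d070c0204000409030a) (Net.cons (nat_lit 8) (nat_lit 0x24007500020076000e0000) (Net.cons (nat_lit 16) (nat_lit 0x50a80000a70900000000) (Net.cons (nat_lit 32) (nat_lit 0x10000000048085ab0) (Net.cons (nat_lit 64) (nat_lit 0x7e8085ab0) (Net.cons (nat_lit 32) (nat_lit 0xf00000000bc2359b0) (Net.cons (nat_lit 16) (nat_lit 0xa63800000c9a00000908) (Net.cons (nat_lit 8) (nat_lit 0x200a5008c006f001300bc) (Net.cons (nat_lit 4) (nat_lit 0x50a0c0c0e0e0106090a030d) (Net.cons (nat_lit 2) (nat_lit 0x312301121022210223010000) (Net.cons (nat_lit 1) (nat_lit 0x1410441050140011105544100) Net.nil)))))))))))))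
noncomputable def X1_19 : Net := (Net.cons (nat_lit 1) (nat_lit 0x4115541140544411045010100) (Net.cons (nat_lit 2) (nat_lit 0x1221203002220301000000000) (Net.cons (nat_lit 4) (nat_lit 0xa09090a0000090000000900) (Net.cons (nat_lit 8) (nat_lit 0x42004c00f8005000200000) (Net.cons (nat_lit 16) (nat_lit 0x80250000180000000000) (Net.cons (nat_lit 32) (nat_lit 59016256) (Net.cons (nat_lit 64) (nat_lit 61113408) (Net.cons (nat_lit 32) (nat_lit 0x9000000005f8c8440) (Net.cons (nat_lit 16) (nat_lit 0xd8250000c0a80000a180) (Net.cons (nat_lit 8) (nat_lit 0xe200cc007000d90028001a) (Net.cons (nat_lit 4) (nat_lit 0xe09090b00000b0000010907) (Net.cons (nat_lit 2) (nat_lit 0x1221303003230300010000000) (Net.cons (nat_lit 1) (nat_lit 0x4115541140544411045010011) Net.nil)))))))))))))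
noncomputable def X1_20 : Net := (Net.cons (nat_lit 1) (nat_lit 0x104150454045000140000000) (Net.cons (nat_lit 2) (nat_lit 0x10130120331201000000000) (Net.cons (nat_lit 4) (nat_lit 0x20d01000004020502020200) (Net.cons (nat_lit 8) (nat_lit 0xcc0021002e009c009e0000) (Net.cons (nat_lit 16) (nat_lit 0x402f000040920000000c) (Net.cons (nat_lit 32) (nat_lit 0x200000000912d4410) (Net.cons (nat_lit 64) (nat_lit 0x2912f4410) (Net.cons (nat_lit 32) (nat_lit 0xe00000000d1bd441c) (Net.cons (nat_lit 16) (nat_lit 0x622f000068d200009e0c) (Net.cons (nat_lit 8) (nat_lit 0x9c0070002e009f00be0020) (Net.cons (nat_lit 4) (nat_lit 0x20d0001000502050202020c) (Net.cons (nat_lit 2) (nat_lit 0x111030121331201000000000) (Net.cons (nat_lit 1) (nat_lit 0x104150454045000140000001) Net.nil)))))))))))))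
noncomputable def X1_21 : Net := (Net.cons (nat_lit 1) (nat_lit 0x4041101455011414155145010) (Net.cons (nat_lit 2) (nat_lit 0x33023021112333230210300) (Net.cons (nat_lit 4) (nat_lit 0x9020a060c0c000b0b0c0808) (Net.cons (nat_lit 8) (nat_lit 0x2400f500c700ac0058000c) (Net.cons (nat_lit 16) (nat_lit 0x82150000008900000009) (Net.cons (nat_lit 32) (nat_lit 0xd0000000098060050) (Net.cons (nat_lit 64) (nat_lit 0x19be6595c) (Net.cons (nat_lit 32) (nat_lit 0x4000000002a6832c5) (Net.cons (nat_lit 16) (nat_lit 0xcb220000415e00002d42) (Net.cons (nat_lit 8) (nat_lit 0xbc002f00260082007900ac) (Net.cons (nat_lit 4) (nat_lit 0xd070f010f0406080b050f00) (Net.cons (nat_lit 2) (nat_lit 0x3212012223312311312013101) (Net.cons (nat_lit 1) (nat_lit 0x51015114014401541140145) Net.nil)))))))))))))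
noncomputable def X1_22 : Net := (Net.cons (nat_lit 1) (nat_lit 0x1455154050051554050150100) (Net.cons (nat_lit 2) (nat_lit 0x313323213123302011103200) (Net.cons (nat_lit 4) (nat_lit 0x208020a0504020804010408) (Net.cons (nat_lit 8) (nat_lit 0xcd00920086005800360000) (Net.cons (nat_lit 16) (nat_lit 0x2a440000040600000000) (Net.cons (nat_lit 32) (nat_lit 0x60000000068541c30) (Net.cons (nat_lit 64) (nat_lit 0x97fdc1ebe) (Net.cons (nat_lit 32) (nat_lit 0x900000000cc5092f3) (Net.cons (nat_lit 16) (nat_lit 0x38a60000f8c50000be0b) (Net.cons (nat_lit 8) (nat_lit 0x600be001e003200ed0066) (Net.cons (nat_lit 4) (nat_lit 0xe060f060c0608060c010a00) (Net.cons (nat_lit 2) (nat_lit 0x1231323133300212011331132) (Net.cons (nat_lit 1) (nat_lit 0x50404145441115001110441) Net.nil)))))))))))))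
noncomputable def X1_23 : Net := (Net.cons (nat_lit 1) (nat_lit 0x5101151454004115500040400) (Net.cons (nat_lit 2) (nat_lit 0x2000033330230312132221100) (Net.cons (nat_lit 4) (nat_lit 0x30e000a01090904070c0d08) (Net.cons (nat_lit 8) (nat_lit 0x4000d0000d00f800500002) (Net.cons (nat_lit 16) (nat_lit 0x1151000081d300000004) (Net.cons (nat_lit 32) (nat_lit 0x8000000007a718ca0) (Net.cons (nat_lit 64) (nat_lit 0xf7f7bace0) (Net.cons (nat_lit 32) (nat_lit 0x20000000033fd6eb0) (Net.cons (nat_lit 16) (nat_lit 0x7a950000f98a0000332d) (Net.cons (nat_lit 8) (nat_lit 0x930025005700ac004700d7) (Net.cons (nat_lit 4) (nat_lit 0x30a0f0b040f0b0b080300) (Net.cons (nat_lit 2) (nat_lit 0x1322032030123321231303210) (Net.cons (nat_lit 1) (nat_lit 0x1544515405504455554101045) Net.nil)))))))))))))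
noncomputable def X1_24 : Net := (Net.cons (nat_lit 1) (nat_lit 0x1155540454504404541114014) (Net.cons (nat_lit 2) (nat_lit 0x2003223120113320013220110) (Net.cons (nat_lit 4) (nat_lit 0xd0f030d080d080b06060400) (Net.cons (nat_lit 8) (nat_lit 0xb500e4000d001000400000) (Net.cons (nat_lit 16) (nat_lit 0x101f0000168900000006) (Net.cons (nat_lit 32) (nat_lit 0x80000000000f39d60) (Net.cons (nat_lit 64) (nat_lit 0xd04f39d64) (Net.cons (nat_lit 32) (nat_lit 0x20000000096737d66) (Net.cons (nat_lit 16) (nat_lit 0x9c6e0000155d0000356f) (Net.cons (nat_lit 8) (nat_lit 0xd7002100f200ab009c0002) (Net.cons (nat_lit 4) (nat_lit 0x3000104080c0d0c0606000f) (Net.cons (nat_lit 2) (nat_lit 0x3320030221211020322103231) (Net.cons (nat_lit 1) (nat_lit 0x1410144000441500000451015) Net.nil)))))))))))))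
noncomputable def X1_25 : Net := (Net.cons (nat_lit 1) (nat_lit 0x5151044444014505504411414) (Net.cons (nat_lit 2) (nat_lit 0x3132110032301002210312300) (Net.cons (nat_lit 4) (nat_lit 0x103040a0f01070c06000701) (Net.cons (nat_lit 8) (nat_lit 0x90041000f00f500470003) (Net.cons (nat_lit 16) (nat_lit 0x8a87000007c500000000) (Net.cons (nat_lit 32) (nat_lit 0xa000000002c269340) (Net.cons (nat_lit 64) (nat_lit 0x22ce69349) (Net.cons (nat_lit 32) (nat_lit 0x1000000003dc09559) (Net.cons (nat_lit 16) (nat_lit 0x87020000dd6500003e79) (Net.cons (nat_lit 8) (nat_lit 0xc900c400b70000005e002c) (Net.cons (nat_lit 4) (nat_lit 0xd050b0705010c0a0a090103) (Net.cons (nat_lit 2) (nat_lit 0x3022221000031311012230121) (Net.cons (nat_lit 1) (nat_lit 0x515505150400451050500504) Net.nil)))))))))))))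
noncomputable def X1_26 : Net := (Net.cons (nat_lit 1) (nat_lit 0x1011051005501550050510140) (Net.cons (nat_lit 2) (nat_lit 0x1101001220002200113203100) (Net.cons (nat_lit 4) (nat_lit 0x7060c0508080a080404090d) (Net.cons (nat_lit 8) (nat_lit 0x8500c000bb000400100000) (Net.cons (nat_lit 16) (nat_lit 0x2186000046a100000005) (Net.cons (nat_lit 32) (nat_lit 0x20000000012ca1900) (Net.cons (nat_lit 64) (nat_lit 0xfbfda3b5d) (Net.cons (nat_lit 32) (nat_lit 0x9000000006e8809fc) (Net.cons (nat_lit 16) (nat_lit 0x59cc00006ae000004bdf) (Net.cons (nat_lit 8) (nat_lit 0x9b00e400eb004a00b80058) (Net.cons (nat_lit 4) (nat_lit 0x70300080200060d000e0907) (Net.cons (nat_lit 2) (nat_lit 0x3103011110022313303111100) (Net.cons (nat_lit 1) (nat_lit 0x4001540051010551051140) Net.nil)))))))))))))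
noncomputable def X1_27 : Net := (Net.cons (nat_lit 1) (nat_lit 0x5544105550445450051500004) (Net.cons (nat_lit 2) (nat_lit 0x202111320103021312201020) (Net.cons (nat_lit 4) (nat_lit 0xd020501020b06010a050e08) (Net.cons (nat_lit 8) (nat_lit 0xe008300040045008a0008) (Net.cons (nat_lit 16) (nat_lit 0xf0c10000094f00000008) (Net.cons (nat_lit 32) (nat_lit 0xa00000000801077f0) (Net.cons (nat_lit 64) (nat_lit 0x7801377f8) (Net.cons (nat_lit 32) (nat_lit 0xa000000008b5275f8) (Net.cons (nat_lit 16) (nat_lit 0x8a6600000b790000eb78) (Net.cons (nat_lit 8) (nat_lit 0x3400b700040065000a00bc) (Net.cons (nat_lit 4) (nat_lit 0x8020c03030d05050e050e0a) (Net.cons (nat_lit 2) (nat_lit 0x202111223103001310021023) (Net.cons (nat_lit 1) (nat_lit 0x4155441455441511050540104) Net.nil)))))))))))))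
noncomputable def X1_28 : Net := (Net.cons (nat_lit 1) (nat_lit 0x5055551544051010541510150) (Net.cons (nat_lit 2) (nat_lit 0x230200233231031023331020) (Net.cons (nat_lit 4) (nat_lit 0x8010d080d0906050102070a) (Net.cons (nat_lit 8) (nat_lit 0xa400e6003600a700050003) (Net.cons (nat_lit 16) (nat_lit 0xa2d60000a8060000000c) (Net.cons (nat_lit 32) (nat_lit 0xa0000000084537300) (Net.cons (nat_lit 64) (nat_lit 2228485039) (Net.cons (nat_lit 32) (nat_lit 0x700000000e01a69e7) (Net.cons (nat_lit 16) (nat_lit 0xe0210000482200006c38) (Net.cons (nat_lit 8) (nat_lit 0x4c0036005b00940071002b) (Net.cons (nat_lit 4) (nat_lit 0x40c0809080d040807040708) (Net.cons (nat_lit 2) (nat_lit 0x330122211211221221330002) (Net.cons (nat_lit 1) (nat_lit 0x5055550544051014541510150) Net.nil)))))))))))))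
noncomputable def X1_29 : Net := (Net.cons (nat_lit 1) (nat_lit 0x500455455554554011400504) (Net.cons (nat_lit 2) (nat_lit 0x2130133032121103112022310) (Net.cons (nat_lit 4) (nat_lit 0x60508030d040b0e0a040404) (Net.cons (nat_lit 8) (nat_lit 0x68001c000500c000820002) (Net.cons (nat_lit 16) (nat_lit 0xaa40000e81700000000) (Net.cons (nat_lit 32) (nat_lit 229442144) (Net.cons (nat_lit 64) (nat_lit 0x41dbf0260) (Net.cons (nat_lit 32) (nat_lit 0xb00000000559fa6e0) (Net.cons (nat_lit 16) (nat_lit 0xa7db0000ea45000003c0) (Net.cons (nat_lit 8) (nat_lit 0x6700cb000900d80082004a) (Net.cons (nat_lit 4) (nat_lit 0x100090b070a0a0208040405) (Net.cons (nat_lit 2) (nat_lit 0x1002130213010002313231102) (Net.cons (nat_lit 1) (nat_lit 0x450444010044051001540400) Net.nil)))))))))))))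
noncomputable def X1_30 : Net := (Net.cons (nat_lit 1) (nat_lit 0x5401511054551411000514404) (Net.cons (nat_lit 2) (nat_lit 0x3101212111230020232111100) (Net.cons (nat_lit 4) (nat_lit 0xb0602000b0b080c0b0a0800) (Net.cons (nat_lit 8) (nat_lit 0x9c009300d9006900440001) (Net.cons (nat_lit 16) (nat_lit 0x82980000640700000000) (Net.cons (nat_lit 32) (nat_lit 0x400000000128b8460) (Net.cons (nat_lit 64) (nat_lit 0x4539b8460) (Net.cons (nat_lit 32) (nat_lit 0xb0000000054cba460) (Net.cons (nat_lit 16) (nat_lit 0x96e0000c41c00006825) (Net.cons (nat_lit 8) (nat_lit 0x5e00d900af00a9004e0080) (Net.cons (nat_lit 4) (nat_lit 0x90e000a03000005090a0809) (Net.cons (nat_lit 2) (nat_lit 0x2331021211310102033223032) (Net.cons (nat_lit 1) (nat_lit 0x4414510444411411500145015) Net.nil)))))))))))))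
noncomputable def X1_31 : Net := (Net.cons (nat_lit 1) (nat_lit 0x5511144441101040450551000) (Net.cons (nat_lit 2) (nat_lit 0x3001001200030011013010000) (Net.cons (nat_lit 4) (nat_lit 0xd0a0403060d06010e0405) (Net.cons (nat_lit 8) (nat_lit 0xc2005400120042000d0007) (Net.cons (nat_lit 16) (nat_lit 0x3446000000e500000004) (Net.cons (nat_lit 32) (nat_lit 0xa000000002e50d390) (Net.cons (nat_lit 64) (nat_lit 0x5af7ad7df) (Net.cons (nat_lit 32) (nat_lit 0xa00000000db34df40) (Net.cons (nat_lit 16) (nat_lit 0x93360000a79f00008684) (Net.cons (nat_lit 8) (nat_lit 0xf200f400a2007200bc00a7) (Net.cons (nat_lit 4) (nat_lit 0xd0b0402030d06000f0405) (Net.cons (nat_lit 2) (nat_lit 0x2001011200021011013000001) (Net.cons (nat_lit 1) (nat_lit 0x5551144441501040450551000) Net.nil)))))))))))))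
noncomputable def X1_32 : Net := (Net.cons (nat_lit 1) (nat_lit 0x10555045510401505505110) (Net.cons (nat_lit 2) (nat_lit 0x2332123110202312130001320) (Net.cons (nat_lit 4) (nat_lit 0xa0f07080f020000060d0b) (Net.cons (nat_lit 8) (nat_lit 0x78008000dc002300440001) (Net.cons (nat_lit 16) (nat_lit 0x1c20000015cd00000009) (Net.cons (nat_lit 32) (nat_lit 0x100000000b41122c0) (Net.cons (nat_lit 64) (nat_lit 0xcfdfb6ef3) (Net.cons (nat_lit 32) (nat_lit 0x30000000076979b3f) (Net.cons (nat_lit 16) (nat_lit 0x1f4f0000a1710000ee9d) (Net.cons (nat_lit 8) (nat_lit 0x7700ba00b400da00590034) (Net.cons (nat_lit 4) (nat_lit 0xe00080d0f0e0804030a0007) (Net.cons (nat_lit 2) (nat_lit 0x1222203111030133113310111) (Net.cons (nat_lit 1) (nat_lit 0x1415411541410044515411001) Net.nil)))))))))))))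
noncomputable def X1 : List Net := [X1_0, X1_1, X1_2, X1_3, X1_4, X1_5, X1_6, X1_7, X1_8, X1_9, X1_10, X1_11, X1_12, X1_13, X1_14, X1_15, X1_16, X1_17, X1_18, X1_19, X1_20, X1_21, X1_22, X1_23, X1_24, X1_25, X1_26, X1_27, X1_28, X1_29, X1_30, X1_31, X1_32]
noncomputable def ws : List (List Nat) := [[8, 4, 12, 5, 14, 12, 8, 14, 11, 14], [16, 5, 10, 5, 10, 16, 9, 13, 11, 14, 16, 17]]
noncomputable def W : List (List Nat) := [[4, 2, 2, 3, 2, 4], [3, 2, 3, 2, 2], [5, 5, 7, 6, 7, 5, 8, 5, 7], [5, 7, 5, 8, 5, 7, 5, 8], [12, 12, 9, 9, 9], [9, 12, 10, 11, 9], [3, 3, 11, 7, 7, 10, 10, 12, 16], [12, 1, 4, 12, 7, 7, 10, 10, 12, 15, 13], [1, 10, 7, 7, 12, 9, 11, 14, 16], [15, 4, 2, 15, 6, 6, 10, 15, 9], [1, 8, 4, 15, 8, 8, 12, 9, 13], [3, 8, 6, 15, 9, 15, 13], [9, 3, 8, 6, 12, 9, 11], [5, 2, 11, 8, 13, 11, 14, 16], [10, 7, 9, 12], [6, 2, 4, 8, 10, 8, 12, 9, 12, 15, 13], [11, 2, 8, 10, 8, 11, 13, 15, 13], [1, 8, 4, 15, 8, 8, 9, 11, 13, 15, 13], [15,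 7, 3, 13, 8, 10, 12, 15, 13], [15, 7, 3, 15, 6, 6, 12, 9, 12, 14, 16], [11, 3, 11, 6, 8, 12, 10, 13, 15, 13], [3, 2, 11, 7, 7, 12, 9, 12, 13], [4, 7, 3, 12, 6, 9, 11, 15, 13], [7, 1, 3, 12, 15, 8, 12, 9, 11, 13], [3, 8, 6], [15, 9, 4, 7, 7, 10, 10, 12, 15, 13], [5, 4, 2, 9, 7, 9, 11], [15, 13], [7, 1, 3, 12, 15, 8, 10, 15, 9, 16], [8, 8, 8, 9, 11, 13], [9, 7, 1, 12, 6, 6, 10, 10, 12, 13, 15, 13], [12, 10, 3, 6, 6, 12, 10, 15, 13], [7, 3, 13, 6, 7, 12, 10]]
noncomputable def c : List Lvl := [⟨(nat_lit 23), [[(nat_lit 1)],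
  [(nat_lit 3)]], (nat_lit 6)⟩,
  ⟨(nat_lit 58), [[(nat_lit 5)],
  [(nat_lit 7)]], (nat_lit 6)⟩,
  ⟨(nat_lit 15), [[(nat_lit 9)],
  [(nat_lit 11)]], (nat_lit 5)⟩,
  ⟨(nat_lit 33), [[(nat_lit 13)],
  [(nat_lit 15)]], (nat_lit 1)⟩,
  ⟨(nat_lit 30), [[(nat_lit 15), (nat_lit 13)]], (nat_lit 2)⟩]
noncomputable def v : List Nat := []
noncomputable def Ss : List Nat := [1082163200, 288230376151744512, 9663676416]
noncomputable def R : Nat := 1606938044258990275541962092342430253122431223184289538506753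
noncomputable def V : Nat := 15528929280278768521728566065532640035282920976870169848114565202608128
noncomputable def e : Fisch.Sm := eqM (lapp X X1) R V
noncomputable def gs : List (List Nat) := [[17], [19], [21], [23], [25], [27], [29], [31]]
noncomputable def T_0 : List PcS := [⟨2, [3, 9], []⟩, ⟨2, [], [[1, 7, 9]]⟩, ⟨2, [], [[7, 9], []]⟩, ⟨2, [7], [[1, 3, 5, 7], [3], [3, 7]]⟩]
noncomputable def T_1 : List PcS := [⟨2, [5], [[1, 3, 5], [1, 5], [3], [5]]⟩, ⟨2, [3], [[1, 3], [3], [3], [3], [3]]⟩, ⟨2, [], [[1], [1], [], [1], [], []]⟩, ⟨2, [], [[], [], [], [], [], [], []]⟩]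
noncomputable def T : List PcS := lapp T_0 (T_1)
noncomputable def cS : List Lvl := [⟨0, [[27], [17], [19], [23]], 1⟩, ⟨1, [[25], [19, 21], [19, 21, 23, 27]], 3⟩, ⟨4, [[19, 21, 23, 27]], 1⟩]
noncomputable def uS : List (List Nat) := [[11], [1], [3], [7], [9], [3, 5], [3, 5, 7, 11], [3, 5, 7, 11]]
noncomputable def Y0 : List (List Nat) := [[]]
noncomputable def E0 : List Fisch.Ent := [.split [⟨[], 0, []⟩, ⟨[], 1, []⟩]]
noncomputable def Y1 : List (List Nat) := [[], [1]]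
noncomputable def E1 : List Fisch.Ent := [.split [⟨[], 0, []⟩, ⟨[], 1, []⟩], .split [⟨[], 2, []⟩, ⟨[], 3, []⟩]]
noncomputable def Y2 : List (List Nat) := [[], [3], [1], [1, 3]]
noncomputable def E2 : List Fisch.Ent := [.split [⟨[], 0, []⟩, ⟨[], 1, []⟩], .merge [1] 1 [5, 7] ⟨[], 2, []⟩, .dead 1 [5], .merge [1] 1 [5, 7] ⟨[], 3, []⟩]
noncomputable def Y3 : List (List Nat) := [[], [5], [3], [1, 3]]
noncomputable def E3 : List Fisch.Ent := [.split [⟨[], 0, []⟩, ⟨[], 1, []⟩], .split [⟨[], 2, []⟩, ⟨[], 3, []⟩], .split [⟨[], 4, []⟩, ⟨[], 5, []⟩], .split [⟨[], 6, []⟩, ⟨[], 7, []⟩]]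
noncomputable def Y4 : List (List Nat) := [[], [7], [5], [5, 7], [3], [3, 7], [1, 3], [1, 3, 7]]
noncomputable def E4 : List Fisch.Ent := [.split [⟨[], 0, []⟩, ⟨[], 1, []⟩], .merge [1] 1 [1, 3, 5] ⟨[], 2, []⟩, .split [⟨[], 3, []⟩, ⟨[], 4, []⟩], .merge [1] 1 [1, 5] ⟨[], 5, []⟩, .split [⟨[], 6, []⟩, ⟨[], 7, []⟩], .split [⟨[], 8, []⟩, ⟨[], 9, []⟩], .merge [7] 1 [5] ⟨[], 10, []⟩, .dead 1 [3, 5]]
noncomputable def Y5 : List (List Nat) := [[], [9], [7], [5], [5, 9], [5, 7], [3], [3, 9], [3, 7], [3, 7, 9], [1, 3]]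
noncomputable def E5 : List Fisch.Ent := [.split [⟨[], 0, []⟩, ⟨[], 1, []⟩], .merge [3] 1 [3] ⟨[], 2, []⟩, .merge [3] 1 [] ⟨[], 3, []⟩, .merge [7] 1 [] ⟨[], 4, []⟩, .merge [1] 1 [] ⟨[], 5, []⟩, .dead 1 [3], .merge [9] 1 [] ⟨[], 6, []⟩, .dead 1 [3], .dead 1 [], .merge [7] 1 [] ⟨[], 7, []⟩, .split [⟨[], 8, []⟩, ⟨[], 9, []⟩]]
noncomputable def Y6 : List (List Nat) := [[], [11], [9], [7], [5], [5, 9], [3], [3, 7, 9], [1, 3], [1, 3, 11]]
noncomputable def E6 : List Fisch.Ent := [.split [⟨[], 0, []⟩, ⟨[], 1, []⟩], .merge [1] 1 [1] ⟨[], 2, []⟩, .merge [5] 1 [] ⟨[], 3, []⟩, .split [⟨[], 4, []⟩, ⟨[], 5, []⟩], .merge [9] 1 [] ⟨[], 6, []⟩, .dead 1 [1], .split [⟨[], 7, []⟩, ⟨[], 8, []⟩], .merge [5, 9] 1 [1] ⟨[], 9, []⟩, .dead 1 [1], .merge [5] 1 [] ⟨[], 10, []⟩]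
noncomputable def Y7 : List (List Nat) := [[], [13], [11], [9], [7], [7, 13], [5], [3], [3, 13], [3, 7, 9], [1, 3, 11]]
noncomputable def E7 : List Fisch.Ent := [.split [⟨[], 0, []⟩, ⟨[], 1, []⟩], .merge [1] 1 [] ⟨[], 2, []⟩, .dead 1 [], .dead 1 [], .dead 1 [], .merge [7] 1 [] ⟨[], 3, []⟩, .merge [11] 1 [] ⟨[], 4, []⟩, .merge [11] 1 [] ⟨[], 5, []⟩, .dead 1 [], .merge [3] 1 [] ⟨[], 6, []⟩, .merge [9] 1 [] ⟨[], 7, []⟩]
noncomputable def Y8 : List (List Nat) := [[], [15], [13], [7, 13], [5], [3], [3, 7, 9], [1, 3, 11]]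
noncomputable def us : List (List Nat) := [[33], [35], [37], [39], [41], [43], [45]]
noncomputable def a : List Nat := [31]
noncomputable def aT : Tr := (.sym [[1], [3]] (.cons [] 6 48 (.op 4 0 (.focus 0 (.cons [] 0 48 (.base (nat_lit 0x8c40012151b01cc32814c9149) (.focus 0 (.sym [[5], [7], [9]] (.cons [] 2 3 (.op 4 0 (.focus 0 (.cons [] 0 3 .triv .nil))) (.cons [4] 2 0 (.base (nat_lit 0x400200000000) (.op 4 1 (.and 1 0 (.dead0 0)))) (.cons [3] 2 0 (.op 5 0 (.and 1 0 (.dead0 0))) .nil)))))) .nil))) (.cons [2] 4 0 (.op 5 0 (.and 1 0 (.dead0 0))) .nil)))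
noncomputable def aTK : List (List Nat) := [[47], [49], [9, 9, 14, 16], [12, 9, 11, 13, 15, 13], [9, 15, 13]]
noncomputable def aTF : List (List Nat) := [[], [1]]
noncomputable def ac : List Lvl := [⟨0, [[47], [49]], 4⟩, ⟨1, [[1, 1, 9, 11, 7, 10, 12, 16], [10, 10, 3, 8, 6, 12, 13, 12, 15, 13]], 4⟩, ⟨3, [[9, 3, 8, 6, 11, 13, 12, 13], [4, 13, 7, 7, 12, 10, 14, 16]], 1⟩, ⟨4, [[6, 7, 3, 6, 6, 7, 9, 11, 14, 16]], 1⟩]
noncomputable def b : List Nat := [51]
noncomputable def bT : Tr := (.sym [[1], [3]] (.cons [] 5 12 (.base (nat_lit 0x31057a4e2e03411442e022e24) (.op 4 0 (.focus 0 (.op 2 0 (.xor 0 2 (.focus 0 (.xor 1 4 (.focus 0 (.sym [[5], [7]] (.cons [] 1 4 (.focus 4 (.focus 2 (.base (nat_lit 0x8c40012151b01cc32814c9149) (.focus 0 (.sym [[9], [11]] (.cons [] 1 2 (.focus 4 (.base (nat_lit 0x400200000000) (.focus 0 (.sym [[11]] (.cons [] 1 1 (.focus 8 (.base (nat_lit 0x4000000000040000040000000) (.focus 0 (.cons [] 0 1 .triv .nil)))) .nil)))))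 (.cons [2] 1 0 (.base (nat_lit 0x4002000200) (.op 4 1 (.and 1 0 (.dead0 0)))) (.cons [1, 1] 1 0 (.base (nat_lit 134219780) (.op 4 1 (.and 1 0 (.dead0 0)))) .nil)))))))) (.cons [1] 3 0 (.base (nat_lit 0x320a08000010024020420) (.op 4 1 (.and 1 0 (.dead0 0)))) (.cons [3] 3 0 (.base (nat_lit 0x320a08000010024020420) (.op 4 1 (.and 1 0 (.dead0 0)))) (.cons [7, 4] 2 0 (.base (nat_lit 0x320a08000010024020420) (.op 4 1 (.and 1 0 (.dead0 0)))) .nil))))))))))))) (.cons [2] 5 0 (.base (nat_lit 0xcefa85b1d1fcbeebbd17dd1db) (.op 4 1 (.and 1 0 (.dead0 0)))) .nil)))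
noncomputable def bTK : List (List Nat) := [[53], [55], [8, 8, 8, 9, 11], [8, 8, 8, 13, 12], [12, 12, 10, 13], [13]]
noncomputable def bTF : List (List Nat) := [[], [1]]
noncomputable def bc : List Lvl := [⟨0, [[53], [55]], 7⟩, ⟨2, [[11, 3, 9, 11, 7, 12, 9, 12], [12, 9, 4, 11, 6, 8, 12]], 1⟩, ⟨1, [[8, 8, 8, 13, 12], [4, 12, 6, 7, 9, 11, 13]], 1⟩, ⟨3, [[4, 13, 7, 7, 12, 10, 14, 16]], 1⟩]
noncomputable def oa : List Nat := [11, 7, 3, 13, 7, 7, 15, 9, 13]
noncomputable def ob : List Nat := [10, 7, 13, 11, 13]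
noncomputable def Ei : List Nat × Nat := ([23], 0)
noncomputable def Ea : List Nat × Nat := ([42], 2)
noncomputable def Eb : List Nat × Nat := ([2], 1)
noncomputable def ya : List (List Nat) := [[6, 2, 4, 8, 10, 8, 12, 12, 13, 15, 13], [10, 1, 4, 15, 7, 11, 9, 11]]
noncomputable def ua : List Nat := [1, 3]
noncomputable def wa : List Nat := [1, 5, 8, 9, 9, 12, 13, 15, 13]
noncomputable def yb : List (List Nat) := [[9, 7, 1, 12, 6, 6, 10, 10, 12, 13, 15, 13], [4, 13, 7, 7, 12, 10, 13, 15, 13]]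
noncomputable def ub : List Nat := [1, 3]
noncomputable def wb : List Nat := [6, 4, 2, 12, 6, 9, 9, 13]
noncomputable def gr : List Nat := [4, 2, 15, 7, 7, 13, 12, 13]
noncomputable def yr : List (List Nat) := [[3, 3, 11, 7, 7, 13, 12, 16], [4, 9, 4, 15, 8, 8, 12, 10, 13]]
noncomputable def ur : List Nat := [1, 3]
noncomputable def xa : List (List Nat) := [[57], [59], [61]]
noncomputable def xT : Tr := (.op 11 0 (.focus 0 (.sym [[1]] (.cons [] 1 1 (.focus 1 (.base (nat_lit 0x31057a4e2e03411442e022e24) (.op 16 0 (.focus 0 (.op 19 1 (.focus 0 (.op 2 0 (.xor 0 4 (.focus 0 (.cons [] 0 1 (.focus 7 (.focus 4 (.xor 2 3 (.focus 0 (.op 4 6 (.xor 4 0 (.focus 0 (.cons [] 0 1 (.focus 11 (.focus 7 (.focus 1 (.xor 6 4 (.focus 0 (.cons [] 0 1 (.focus 10 (.focus 9 (.op 4 6 (.focus 0 (.cons [] 0 1 .triv .nil))))) .nil)))))) .nil)))))))) .nil)))))))))) (.cons [4] 1 0 (.op 17 0 (.and 1 0 (.dead0 0))) (.cons [11, 3] 1 0 (.op 4 0 (.op 10 0 (.op 26 0 (.and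 1 0 (.dead0 0))))) (.cons [13, 4] 0 0 (.op 26 0 (.and 1 0 (.dead0 0))) (.cons [6, 4] 1 0 (.op 4 0 (.op 10 0 (.op 17 0 (.and 1 0 (.dead0 0))))) (.cons [9, 7, 1] 0 0 (.op 26 0 (.and 1 0 (.dead0 0))) .nil)))))))))
noncomputable def xTK : List (List Nat) := [[31]]
noncomputable def xTF : List (List Nat) := [[], [1], [2], [3], [4], [5], [6], [6, 1], [5, 2], [5, 3], [6, 4], [2, 5], [3, 5], [1, 6], [4, 6], [5, 1], [6, 2], [6, 3], [5, 4], [1, 5], [4, 5]]
noncomputable def xb : List (List Nat) := [[63], [65]]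
noncomputable def yT : Tr := (.op 5 0 (.focus 0 (.sym [[1], [3]] (.cons [] 1 1 (.op 16 0 (.op 10 0 (.op 16 0 (.focus 0 (.cons [] 0 1 (.op 10 0 (.focus 0 (.cons [] 0 1 (.op 10 0 (.op 16 0 (.focus 0 (.cons [] 0 1 (.base (nat_lit 0x4000000000040000040000000) (.focus 0 (.base (nat_lit 0x310548442603410440a002a04) (.op 4 0 (.focus 0 (.cons [] 0 1 .triv .nil)))))) .nil)))) .nil))) .nil))))) .nil))))
noncomputable def yTK : List (List Nat) := [[51], [6, 2, 4, 8, 10, 8, 12, 9, 12, 14, 16]]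
noncomputable def yTF : List (List Nat) := [[], [3], [4], [5], [6], [4, 5, 3], [4, 6, 3], [3, 5, 4], [3, 6, 4], [6, 3, 5], [6, 4, 5], [5, 3, 6], [5, 4, 6], [6, 3, 5, 3], [5, 4, 5, 3], [5, 3, 6, 3], [6, 4, 6, 3], [5, 3, 5, 4], [6, 4, 5, 4], [6, 3, 6, 4], [5, 4, 6, 4]]
noncomputable def zb : List (List Nat) := [[], [51], [6, 2, 4, 8, 10, 8, 12, 9, 12, 14, 16], [39]]
noncomputable def Eg : List Nat × Nat := ([1, 1], 1)
noncomputable def c2 : List Nat := [67]
noncomputable def c2E : List Nat × Nat := ([8], 2)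
noncomputable def c2g : List Nat := [7, 1, 5, 7, 7, 9, 9, 12, 16]
noncomputable def c2x : List (List Nat) := [[7, 4, 13, 6, 7, 15, 9, 9, 15, 13], [3, 12, 1, 6, 9, 6, 15, 9, 11]]
noncomputable def c2u : List Nat := [1, 3]
noncomputable def c2h : List Nat := [7, 3, 15, 7, 7, 10, 11, 13]
noncomputable def Ts : List To := [⟨[], 0, []⟩, ⟨[], 1, []⟩, ⟨[2, 2, 11, 7, 7, 15, 9, 11], 1, []⟩, ⟨[9, 8, 10, 11, 14, 16], 1, []⟩, ⟨[3, 2, 7, 7, 11, 10], 2, []⟩, ⟨[4, 12, 6, 10, 12, 13], 3, []⟩, ⟨[4, 12, 8, 8, 15, 9, 16], 3, []⟩, ⟨[12, 9, 3, 9, 6, 14, 16], 2, []⟩]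
noncomputable def β : List Nat := [3, 7, 4, 8]
noncomputable def d : List Nat := [69]
noncomputable def i : List Nat := [10, 1, 10, 7, 7, 15, 9]
noncomputable def gi : List Nat := [4, 12, 7, 7, 12, 9, 16]
noncomputable def xi : List (List Nat) := [[15, 4, 2, 15, 6, 6, 12, 12, 10, 14, 16], [3, 2, 11, 7, 7, 15, 9, 9, 14, 16]]
noncomputable def ui : List Nat := [1, 3]
noncomputable def dT : Tr := (.sym [[1], [3]] (.cons [] 4 1 (.op 4 0 (.focus 0 (.cons [] 0 1 (.base (nat_lit 0x8c40012151b01cc32814c9149) (.focus 0 (.op 13 0 (.focus 0 (.base (nat_lit 0x42a2849080048008950314092) (.op 10 0 (.focus 0 (.op 10 0 (.focus 0 (.cons [] 0 1 (.op 4 0 (.focus 0 (.cons [] 0 1 (.focus 5 (.op 13 10 (.focus 0 (.cons [] 0 1 .triv .nil)))) .nil))) .nil)))))))))) .nil))) (.cons [3] 4 0 (.base (nat_lit 0xcefa85b1d1fcbeebbd17dd1db) (.op 4 1 (.op 10 0 (.and 2 0 (.dead0 0))))) (.cons [2] 4 0 (.op 5 0 (.and 1 0 (.dead0 0))) (.cons [4] 4 0 (.base (nat_lit 0xcefa85b1d1fcbeebbd17dd1db)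 (.op 10 1 (.and 1 0 (.dead0 0)))) (.cons [1] 4 0 (.base (nat_lit 0xcefa85b1d1fcbeebbd17dd1db) (.op 4 1 (.op 10 0 (.and 2 0 (.dead0 0))))) (.cons [10, 3] 4 0 (.base (nat_lit 0xcefa85b1d1fcbeebbd17dd1db) (.op 10 1 (.and 1 0 (.dead0 0)))) (.cons [4, 2] 4 0 (.base (nat_lit 0xcefa85b1d1fcbeebbd17dd1db) (.op 10 0 (.and 1 0 (.op 13 2 (.and 1 0 (.op 4 4 (.op 10 0 (.and 2 0 (.dead 0))))))))) (.cons [2, 3] 4 0 (.op 5 0 (.and 1 0 (.dead0 0))) (.cons [7, 1] 4 0 (.op 5 0 (.and 1 0 (.dead0 0))) (.cons [12, 3] 4 0 (.base (nat_lit 0xcefa85b1d1fcbeebbd17dd1db) (.op 10 1 (.and 1 0 (.dead0 0)))) (.cons [13, 3] 4 0 (.op 5 0 (.and 1 0 (.dead0 0))) (.cons [3, 2] 4 0 (.base (nat_lit 0xcefa85b1d1fcbeebbd17dd1db) (.op 10 1 (.and 1 0 (.dead0 0)))) .nil)))))))))))))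
noncomputable def dTK : List (List Nat) := [[31], [69]]
noncomputable def dTF : List (List Nat) := [[], [1]]
noncomputable def zs : List (List Nat) := [[], [31], [69], [3, 13, 4, 5, 7, 7, 11, 10, 13, 15, 13], [7, 4, 2, 10, 7, 7, 13, 12, 13], [5, 4, 2, 9, 7, 12, 10, 15, 13], [7, 4, 4, 8, 6, 15, 9, 9, 15, 13], [10, 1, 4, 15, 7, 12, 12, 16], [8, 4, 8, 13, 8, 12, 14, 16], [6, 2, 12, 6, 7, 12, 9, 13, 15, 13]]

end CF.Ec.J2
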