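import Cfsg.Agent.Fisch.St.Defs
import Cfsg.Agent.Bt.Res

set_option autoImplicit false
set_option maxRecDepth 1000000

namespace CF.Ec.M12

open CF.Comp CF.Fisch CF.Bt

noncomputable def X_0 : Net := (Net.cons (nat_lit 1) (nat_lit 5312512) (Net.cons (nat_lit 2) (nat_lit 3158048) (Net.cons (nat_lit 4) (nat_lit 461824) (Net.cons (nat_lit 8) (nat_lit 160) (Net.cons (nat_lit 16) (nat_lit 225) (Net.cons (nat_lit 8) (nat_lit 140) (Net.cons (nat_lit 4) (nat_lit 787201) (Net.cons (nat_lit 2) (nat_lit 3343105) (Net.cons (nat_lit 1) (nat_lit 1053968) Net.nil)))))))))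
noncomputable def X_1 : Net := (Net.cons (nat_lit 1) (nat_lit 283988) (Net.cons (nat_lit 2) (nat_lit 66336) (Net.cons (nat_lit 4) (nat_lit 852736) (Net.cons (nat_lit 8) (nat_lit 138) (Net.cons (nat_lit 16) (nat_lit 175) (Net.cons (nat_lit 8) (nat_lit 210) (Net.cons (nat_lit 4) (nat_lit 723206) (Net.cons (nat_lit 2) (nat_lit 1052705) (Net.cons (nat_lit 1) (nat_lit 4457732) Net.nil)))))))))
noncomputable def X : List Net := [X_0, X_1]
noncomputable def X1_0 : Net := (Net.cons (nat_lit 1) (nat_lit 4276224) (Net.cons (nat_lit 2) (nat_lit 1057280) (Net.cons (nat_lit 4) (nat_lit 256) (Net.cons (nat_lit 8) (nat_lit 68) (Net.cons (nat_lit 16) (nat_lit 69) (Net.cons (nat_lit 8) (nat_lit 105) (Net.cons (nat_lit 4) (nat_lit 263424) (Net.cons (nat_lit 2) (nat_lit 3224081) (Net.cons (nat_lit 1) (nat_lit 4276224) Net.nil)))))))))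
noncomputable def X1_1 : Net := (Net.cons (nat_lit 1) (nat_lit 1053952) (Net.cons (nat_lit 2) (nat_lit 1114656) (Net.cons (nat_lit 4) (nat_lit 327680) (Net.cons (nat_lit 8) (nat_lit 22) (Net.cons (nat_lit 16) (nat_lit 182) (Net.cons (nat_lit 8) (nat_lit 31) (Net.cons (nat_lit 4) (nat_lit 462593) (Net.cons (nat_lit 2) (nat_lit 3350579) (Net.cons (nat_lit 1) (nat_lit 16385) Net.nil)))))))))
noncomputable def X1_2 : Net := (Net.cons (nat_lit 1) (nat_lit 1024) (Net.cons (nat_lit 2) (nat_lit 4384) (Net.cons (nat_lit 4) (nat_lit 131584) (Net.cons (nat_lit 8) (nat_lit 8) (Net.cons (nat_lit 16) (nat_lit 40) (Net.cons (nat_lit 8) (nat_lit 202) (Net.cons (nat_lit 4) (nat_lit 131840) (Net.cons (nat_lit 2) (nat_lit 4385) (Net.cons (nat_lit 1) (nat_lit 1280) Net.nil)))))))))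
noncomputable def X1_3 : Net := (Net.cons (nat_lit 1) (nat_lit 5522436) (Net.cons (nat_lit 2) (nat_lit 1122352) (Net.cons (nat_lit 4) (nat_lit 66304) (Net.cons (nat_lit 8) (nat_lit 11) (Net.cons (nat_lit 16) (nat_lit 139) (Net.cons (nat_lit 8) (nat_lit 34) (Net.cons (nat_lit 4) (nat_lit 134401) (Net.cons (nat_lit 2) (nat_lit 205360) (Net.cons (nat_lit 1) (nat_lit 4214848) Net.nil)))))))))
noncomputable def X1_4 : Net := (Net.cons (nat_lit 1) (nat_lit 4477200) (Net.cons (nat_lit 2) (nat_lit 1245440) (Net.cons (nat_lit 4) (nat_lit 66048) (Net.cons (nat_lit 8) (nat_lit 201) (Net.cons (nat_lit 16) (nat_lit 217) (Net.cons (nat_lit 8) (nat_lit 94) (Net.cons (nat_lit 4) (nat_lit 593413) (Net.cons (nat_lit 2) (nat_lit 2297858) (Net.cons (nat_lit 1) (nat_lit 4477205) Net.nil)))))))))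
noncomputable def X1_5 : Net := (Net.cons (nat_lit 1) (nat_lit 5525572) (Net.cons (nat_lit 2) (nat_lit 66048) (Net.cons (nat_lit 4) (nat_lit 655360) (Net.cons (nat_lit 8) (nat_lit 128) (Net.cons (nat_lit 16) (nat_lit 194) (Net.cons (nat_lit 8) (nat_lit 34) (Net.cons (nat_lit 4) (nat_lit 67082) (Net.cons (nat_lit 2) (nat_lit 2302467) (Net.cons (nat_lit 1) (nat_lit 4473925) Net.nil)))))))))
noncomputable def X1_6 : Net := (Net.cons (nat_lit 1) (nat_lit 278608) (Net.cons (nat_lit 2) (nat_lit 3153968) (Net.cons (nat_lit 4) (nat_lit 262400) (Net.cons (nat_lit 8) (nat_lit 204) (Net.cons (nat_lit 16) (nat_lit 220) (Net.cons (nat_lit 8) (nat_lit 133) (Net.cons (nat_lit 4) (nat_lit 919810) (Net.cons (nat_lit 2) (nat_lit 3153968) (Net.cons (nat_lit 1) (nat_lit 263253) Net.nil)))))))))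
noncomputable def X1_7 : Net := (Net.cons (nat_lit 1) (nat_lit 1118224) (Net.cons (nat_lit 2) (nat_lit 131088) (Net.cons (nat_lit 4) (nat_lit 786432) (Net.cons (nat_lit 8) (nat_lit 3) (Net.cons (nat_lit 16) (nat_lit 159) (Net.cons (nat_lit 8) (nat_lit 104) (Net.cons (nat_lit 4) (nat_lit 723972) (Net.cons (nat_lit 2) (nat_lit 13089) (Net.cons (nat_lit 1) (nat_lit 4527109) Net.nil)))))))))
noncomputable def X1_8 : Net := (Net.cons (nat_lit 1) (nat_lit 66624) (Net.cons (nat_lit 2) (nat_lit 3285264) (Net.cons (nat_lit 4) (nat_lit 68864) (Net.cons (nat_lit 8) (nat_lit 75) (Net.cons (nat_lit 16) (nat_lit 235) (Net.cons (nat_lit 8) (nat_lit 236) (Net.cons (nat_lit 4) (nat_lit 199689) (Net.cons (nat_lit 2) (nat_lit 1114897) (Net.cons (nat_lit 1) (nat_lit 70677) Net.nil)))))))))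
noncomputable def X1_9 : Net := (Net.cons (nat_lit 1) (nat_lit 4260864) (Net.cons (nat_lit 2) (nat_lit 768) (Net.cons (nat_lit 4) (nat_lit 67584) (Net.cons (nat_lit 8) (nat_lit 128) (Net.cons (nat_lit 16) (nat_lit 153) (Net.cons (nat_lit 8) (nat_lit 86) (Net.cons (nat_lit 4) (nat_lit 920324) (Net.cons (nat_lit 2) (nat_lit 3351075) (Net.cons (nat_lit 1) (nat_lit 4477013) Net.nil)))))))))
noncomputable def X1_10 : Net := (Net.cons (nat_lit 1) (nat_lit 278528) (Net.cons (nat_lit 4) (nat_lit 66048) (Net.cons (nat_lit 8) (nat_lit 4) (Net.cons (nat_lit 16) (nat_lit 28) (Net.cons (nat_lit 8) (nat_lit 6) (Net.cons (nat_lit 4) (nat_lit 68096) (Net.cons (nat_lit 2) (nat_lit 1) (Net.cons (nat_lit 1) (nat_lit 5521408) Net.nil))))))))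
noncomputable def X1_11 : Net := (Net.cons (nat_lit 1) (nat_lit 4542720) (Net.cons (nat_lit 2) (nat_lit 8192) (Net.cons (nat_lit 4) (nat_lit 526080) (Net.cons (nat_lit 8) (nat_lit 22) (Net.cons (nat_lit 16) (nat_lit 246) (Net.cons (nat_lit 8) (nat_lit 166) (Net.cons (nat_lit 4) (nat_lit 328968) (Net.cons (nat_lit 2) (nat_lit 1187840) (Net.cons (nat_lit 1) (nat_lit 4199760) Net.nil)))))))))
noncomputable def X1_12 : Net := (Net.cons (nat_lit 1) (nat_lit 266240) (Net.cons (nat_lit 2) (nat_lit 200720) (Net.cons (nat_lit 4) (nat_lit 852992) (Net.cons (nat_lit 8) (nat_lit 16) (Net.cons (nat_lit 16) (nat_lit 208) (Net.cons (nat_lit 8) (nat_lit 20) (Net.cons (nat_lit 4) (nat_lit 852992) (Net.cons (nat_lit 2) (nat_lit 200720) (Net.cons (nat_lit 1) (nat_lit 4461825) Net.nil)))))))))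
noncomputable def X1_13 : Net := (Net.cons (nat_lit 1) (nat_lit 262144) (Net.cons (nat_lit 2) (nat_lit 4128) (Net.cons (nat_lit 4) (nat_lit 196608) (Net.cons (nat_lit 16) (nat_lit 56) (Net.cons (nat_lit 8) (nat_lit 192) (Net.cons (nat_lit 4) (nat_lit 196608) (Net.cons (nat_lit 2) (nat_lit 4128) (Net.cons (nat_lit 1) (nat_lit 5505280) Net.nil))))))))
noncomputable def X1_14 : Net := (Net.cons (nat_lit 1) (nat_lit 5312576) (Net.cons (nat_lit 2) (nat_lit 1187840) (Net.cons (nat_lit 4) (nat_lit 459776) (Net.cons (nat_lit 8) (nat_lit 140) (Net.cons (nat_lit 16) (nat_lit 252) (Net.cons (nat_lit 8) (nat_lit 140) (Net.cons (nat_lit 4) (nat_lit 986376) (Net.cons (nat_lit 2) (nat_lit 1253392) (Net.cons (nat_lit 1) (nat_lit 5312576) Net.nil)))))))))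
noncomputable def X1_15 : Net := (Net.cons (nat_lit 1) (nat_lit 1053008) (Net.cons (nat_lit 2) (nat_lit 1253888) (Net.cons (nat_lit 4) (nat_lit 262144) (Net.cons (nat_lit 8) (nat_lit 163) (Net.cons (nat_lit 16) (nat_lit 243) (Net.cons (nat_lit 8) (nat_lit 139) (Net.cons (nat_lit 4) (nat_lit 525312) (Net.cons (nat_lit 2) (nat_lit 3342880) (Net.cons (nat_lit 1) (nat_lit 5312528) Net.nil)))))))))
noncomputable def X1_16 : Net := (Net.cons (nat_lit 1) (nat_lit 5243968) (Net.cons (nat_lit 2) (nat_lit 209440) (Net.cons (nat_lit 4) (nat_lit 262656) (Net.cons (nat_lit 8) (nat_lit 23) (Net.cons (nat_lit 16) (nat_lit 95) (Net.cons (nat_lit 8) (nat_lit 63) (Net.cons (nat_lit 4) (nat_lit 265472) (Net.cons (nat_lit 2) (nat_lit 3146496) (Net.cons (nat_lit 1) (nat_lit 1312000) Net.nil)))))))))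
noncomputable def X1_17 : Net := (Net.cons (nat_lit 1) (nat_lit 1118208) (Net.cons (nat_lit 2) (nat_lit 3150624) (Net.cons (nat_lit 4) (nat_lit 2560) (Net.cons (nat_lit 8) (nat_lit 10) (Net.cons (nat_lit 16) (nat_lit 138) (Net.cons (nat_lit 8) (nat_lit 230) (Net.cons (nat_lit 4) (nat_lit 590344) (Net.cons (nat_lit 2) (nat_lit 3150624) (Net.cons (nat_lit 1) (nat_lit 1118468) Net.nil)))))))))
noncomputable def X1_18 : Net := (Net.cons (nat_lit 1) (nat_lit 5505296) (Net.cons (nat_lit 2) (nat_lit 131584) (Net.cons (nat_lit 4) (nat_lit 328192) (Net.cons (nat_lit 8) (nat_lit 32) (Net.cons (nat_lit 16) (nat_lit 114) (Net.cons (nat_lit 8) (nat_lit 168) (Net.cons (nat_lit 4) (nat_lit 328192) (Net.cons (nat_lit 2) (nat_lit 1245712) (Net.cons (nat_lit 1) (nat_lit 5509392) Net.nil)))))))))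
noncomputable def X1_19 : Net := (Net.cons (nat_lit 1) (nat_lit 1114432) (Net.cons (nat_lit 2) (nat_lit 1245696) (Net.cons (nat_lit 4) (nat_lit 132096) (Net.cons (nat_lit 8) (nat_lit 140) (Net.cons (nat_lit 16) (nat_lit 236) (Net.cons (nat_lit 8) (nat_lit 141) (Net.cons (nat_lit 4) (nat_lit 132104) (Net.cons (nat_lit 2) (nat_lit 1245696) (Net.cons (nat_lit 1) (nat_lit 1118528) Net.nil)))))))))
noncomputable def X1_20 : Net := (Net.cons (nat_lit 1) (nat_lit 262212) (Net.cons (nat_lit 2) (nat_lit 2170896) (Net.cons (nat_lit 4) (nat_lit 394752) (Net.cons (nat_lit 8) (nat_lit 33) (Net.cons (nat_lit 16) (nat_lit 55) (Net.cons (nat_lit 8) (nat_lit 14) (Net.cons (nat_lit 4) (nat_lit 851970) (Net.cons (nat_lit 2) (nat_lit 200995) (Net.cons (nat_lit 1) (nat_lit 1135937) Net.nil)))))))))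
noncomputable def X1_21 : Net := (Net.cons (nat_lit 1) (nat_lit 70992) (Net.cons (nat_lit 2) (nat_lit 3281200) (Net.cons (nat_lit 4) (nat_lit 985344) (Net.cons (nat_lit 8) (nat_lit 24) (Net.cons (nat_lit 16) (nat_lit 120) (Net.cons (nat_lit 8) (nat_lit 100) (Net.cons (nat_lit 4) (nat_lit 722444) (Net.cons (nat_lit 2) (nat_lit 70400) (Net.cons (nat_lit 1) (nat_lit 4543504) Net.nil)))))))))
noncomputable def X1_22 : Net := (Net.cons (nat_lit 1) (nat_lit 1065024) (Net.cons (nat_lit 2) (nat_lit 1245440) (Net.cons (nat_lit 4) (nat_lit 394240) (Net.cons (nat_lit 8) (nat_lit 141) (Net.cons (nat_lit 16) (nat_lit 255) (Net.cons (nat_lit 8) (nat_lit 30) (Net.cons (nat_lit 4) (nat_lit 328192) (Net.cons (nat_lit 2) (nat_lit 2240560) (Net.cons (nat_lit 1) (nat_lit 1331461) Net.nil)))))))))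
noncomputable def X1_23 : Net := (Net.cons (nat_lit 1) (nat_lit 4215120) (Net.cons (nat_lit 2) (nat_lit 2170928) (Net.cons (nat_lit 4) (nat_lit 132096) (Net.cons (nat_lit 8) (nat_lit 7) (Net.cons (nat_lit 16) (nat_lit 71) (Net.cons (nat_lit 8) (nat_lit 51) (Net.cons (nat_lit 4) (nat_lit 789513) (Net.cons (nat_lit 2) (nat_lit 1184256) (Net.cons (nat_lit 1) (nat_lit 5522753) Net.nil)))))))))
noncomputable def X1_24 : Net := (Net.cons (nat_lit 1) (nat_lit 86288) (Net.cons (nat_lit 2) (nat_lit 528) (Net.cons (nat_lit 4) (nat_lit 854784) (Net.cons (nat_lit 8) (nat_lit 146) (Net.cons (nat_lit 16) (nat_lit 182) (Net.cons (nat_lit 8) (nat_lit 170) (Net.cons (nat_lit 4) (nat_lit 395279) (Net.cons (nat_lit 2) (nat_lit 3150627) (Net.cons (nat_lit 1) (nat_lit 4472853) Net.nil)))))))))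
noncomputable def X1_25 : Net := (Net.cons (nat_lit 1) (nat_lit 278848) (Net.cons (nat_lit 2) (nat_lit 13072) (Net.cons (nat_lit 8) (nat_lit 8) (Net.cons (nat_lit 16) (nat_lit 56) (Net.cons (nat_lit 8) (nat_lit 148) (Net.cons (nat_lit 4) (nat_lit 134664) (Net.cons (nat_lit 2) (nat_lit 13074) (Net.cons (nat_lit 1) (nat_lit 283972) Net.nil))))))))
noncomputable def X1_26 : Net := (Net.cons (nat_lit 1) (nat_lit 4456532) (Net.cons (nat_lit 2) (nat_lit 200960) (Net.cons (nat_lit 4) (nat_lit 131584) (Net.cons (nat_lit 8) (nat_lit 32) (Net.cons (nat_lit 16) (nat_lit 100) (Net.cons (nat_lit 8) (nat_lit 4) (Net.cons (nat_lit 4) (nat_lit 656128) (Net.cons (nat_lit 2) (nat_lit 3346690) (Net.cons (nat_lit 1) (nat_lit 1311829) Net.nil)))))))))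
noncomputable def X1_27 : Net := (Net.cons (nat_lit 1) (nat_lit 327684) (Net.cons (nat_lit 2) (nat_lit 3354896) (Net.cons (nat_lit 4) (nat_lit 67584) (Net.cons (nat_lit 8) (nat_lit 18) (Net.cons (nat_lit 16) (nat_lit 146) (Net.cons (nat_lit 8) (nat_lit 30) (Net.cons (nat_lit 4) (nat_lit 329988) (Net.cons (nat_lit 2) (nat_lit 78098) (Net.cons (nat_lit 1) (nat_lit 5570564) Net.nil)))))))))
noncomputable def X1_28 : Net := (Net.cons (nat_lit 1) (nat_lit 1115456) (Net.cons (nat_lit 2) (nat_lit 2228224) (Net.cons (nat_lit 4) (nat_lit 264960) (Net.cons (nat_lit 8) (nat_lit 2) (Net.cons (nat_lit 16) (nat_lit 106) (Net.cons (nat_lit 8) (nat_lit 41) (Net.cons (nat_lit 4) (nat_lit 68878) (Net.cons (nat_lit 2) (nat_lit 2236433) (Net.cons (nat_lit 1) (nat_lit 4526084) Net.nil)))))))))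
noncomputable def X1_29 : Net := (Net.cons (nat_lit 1) (nat_lit 1311808) (Net.cons (nat_lit 2) (nat_lit 4864) (Net.cons (nat_lit 4) (nat_lit 852992) (Net.cons (nat_lit 8) (nat_lit 135) (Net.cons (nat_lit 16) (nat_lit 199) (Net.cons (nat_lit 8) (nat_lit 226) (Net.cons (nat_lit 4) (nat_lit 66311) (Net.cons (nat_lit 2) (nat_lit 1254194) (Net.cons (nat_lit 1) (nat_lit 4433) Net.nil)))))))))
noncomputable def X1_30 : Net := (Net.cons (nat_lit 1) (nat_lit 1331524) (Net.cons (nat_lit 2) (nat_lit 1056768) (Net.cons (nat_lit 4) (nat_lit 329728) (Net.cons (nat_lit 8) (nat_lit 1) (Net.cons (nat_lit 16) (nat_lit 135) (Net.cons (nat_lit 8) (nat_lit 124) (Net.cons (nat_lit 4) (nat_lit 985098) (Net.cons (nat_lit 2) (nat_lit 2298675) (Net.cons (nat_lit 1) (nat_lit 1331524) Net.nil)))))))))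
noncomputable def X1_31 : Net := (Net.cons (nat_lit 1) (nat_lit 4280320) (Net.cons (nat_lit 2) (nat_lit 78336) (Net.cons (nat_lit 4) (nat_lit 197888) (Net.cons (nat_lit 8) (nat_lit 48) (Net.cons (nat_lit 16) (nat_lit 184) (Net.cons (nat_lit 8) (nat_lit 44) (Net.cons (nat_lit 4) (nat_lit 460544) (Net.cons (nat_lit 2) (nat_lit 3354625) (Net.cons (nat_lit 1) (nat_lit 1134592) Net.nil)))))))))
noncomputable def X1 : List Net := [X1_0, X1_1, X1_2, X1_3, X1_4, X1_5, X1_6, X1_7, X1_8, X1_9, X1_10, X1_11, X1_12, X1_13, X1_14, X1_15, X1_16, X1_17, X1_18, X1_19, X1_20, X1_21, X1_22, X1_23, X1_24, X1_25, X1_26, X1_27, X1_28, X1_29, X1_30, X1_31]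
noncomputable def ws : List (List Nat) := [[2, 2, 20, 8, 11], [1, 8, 15, 13, 21, 17, 22, 19, 23]]
noncomputable def W : List (List Nat) := [[2, 3, 1, 4, 2, 2], [1, 4, 1, 4, 1], [8, 6, 7, 7, 5, 8, 8, 5, 7], [10, 6, 8, 10, 6, 8, 6, 8, 6, 8, 9, 7, 5], [10, 6, 8, 6, 8, 6, 8, 9, 6, 8, 9, 7, 5], [11, 14, 12, 13, 12], [11, 11, 14], [3, 1, 11, 9, 18, 11], [13, 4, 7, 14, 7, 5, 18, 11, 16], [4, 2, 8, 5, 12, 9, 18, 11, 15], [1, 5, 9, 11, 16, 18], [8, 11, 2, 5, 7, 16, 7, 5, 16, 11, 16, 18], [1, 5, 17, 7, 5, 16, 11, 18], [1, 5, 17, 7, 5, 16, 11, 17], [9, 2, 5, 18, 11, 9, 11, 15], [2, 12, 7, 16, 7, 5, 14, 18, 18], [2, 7, 11, 9, 11, 15], [9, 2, 7, 16, 7, 5, 16, 14, 18, 18], [2, 7, 16, 7, 5, 18, 11, 15], [8, 11, 2, 8, 9, 7, 14, 16], [3, 2, 7, 7, 9, 7, 5, 14, 15, 18], [2, 2, 13, 7, 16, 7, 5, 18], [1, 5, 12, 16], [1, 1, 8, 5, 7, 5, 14], [4, 1, 12, 7, 9, 7, 5, 16, 14, 18, 18], [16, 7, 5, 17, 14, 16, 18], [8,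 11, 2, 5, 7, 14, 14], [2, 2, 13, 7, 14, 16, 18], [9, 2, 12, 7, 14, 7, 5, 17, 14, 18], [2, 2, 7, 7, 16, 14, 17], [4, 9, 7, 11, 9, 16, 14, 17], [8, 2, 18, 7, 12, 9, 18, 11, 18, 18]]
noncomputable def c : List Lvl := [⟨(nat_lit 16), [[(nat_lit 1)],
  [(nat_lit 3)]], (nat_lit 5)⟩,
  ⟨(nat_lit 4), [[(nat_lit 5)],
  [(nat_lit 7)]], (nat_lit 5)⟩,
  ⟨(nat_lit 8), [[(nat_lit 7), (nat_lit 5)],
  [(nat_lit 9)]], (nat_lit 3)⟩,
  ⟨(nat_lit 9), [[(nat_lit 11)],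
  [(nat_lit 13)]], (nat_lit 4)⟩,
  ⟨(nat_lit 12), [[(nat_lit 15)],
  [(nat_lit 17)]], (nat_lit 2)⟩]
noncomputable def v : List Nat := [19, 8, 12, 22, 19]
noncomputable def Ss : List Nat := [69888, 272, 4608]
noncomputable def R : Nat := 281474993487873
noncomputable def V : Nat := 1297036697246175488
noncomputable def e : Fisch.Sm := eqM (lapp X X1) R V
noncomputable def gs : List (List Nat) := [[19], [21], [23], [25], [27], [29], [31]]
noncomputable def T_0 : List PcS := [⟨2, [5, 7], []⟩, ⟨2, [3, 7, 9], [[5]]⟩, ⟨2, [7], [[1, 5], [1, 5, 7]]⟩, ⟨2, [], [[3, 5], [5], []]⟩]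
noncomputable def T_1 : List PcS := [⟨2, [3], [[1, 3], [1], [1], [3]]⟩, ⟨2, [], [[1], [1], [], [], []]⟩, ⟨2, [], [[], [], [], [], [], []]⟩]
noncomputable def T : List PcS := lapp T_0 (T_1)
noncomputable def cS : List Lvl := [⟨0, [[29], [19], [21], [23]], 1⟩, ⟨2, [[27, 31], [21, 23, 27, 31], [19, 21, 25, 27, 29]], 1⟩, ⟨3, [[27, 31], [21, 23, 27, 31]], 2⟩]
noncomputable def uS : List (List Nat) := [[11], [1], [3], [5], [9, 13], [3, 5, 9, 13], [1, 3, 7, 9, 11], [9, 13], [3, 5, 9, 13]]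
noncomputable def Y0 : List (List Nat) := [[]]
noncomputable def E0 : List Fisch.Ent := [.split [⟨[], 0, []⟩, ⟨[], 1, []⟩]]
noncomputable def Y1 : List (List Nat) := [[], [1]]
noncomputable def E1 : List Fisch.Ent := [.split [⟨[], 0, []⟩, ⟨[], 1, []⟩], .split [⟨[], 2, []⟩, ⟨[], 3, []⟩]]
noncomputable def Y2 : List (List Nat) := [[], [3], [1], [1, 3]]
noncomputable def E2 : List Fisch.Ent := [.split [⟨[], 0, []⟩, ⟨[], 1, []⟩], .split [⟨[], 2, []⟩, ⟨[], 3, []⟩], .split [⟨[], 4, []⟩, ⟨[], 5, []⟩], .split [⟨[], 6, []⟩, ⟨[], 7, []⟩]]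
noncomputable def Y3 : List (List Nat) := [[], [5], [3], [3, 5], [1], [1, 5], [1, 3], [1, 3, 5]]
noncomputable def E3 : List Fisch.Ent := [.split [⟨[], 0, []⟩, ⟨[], 1, []⟩], .merge [1] 1 [3] ⟨[], 2, []⟩, .dead 1 [3, 5], .merge [1] 1 [1, 5] ⟨[], 3, []⟩, .dead 1 [1], .merge [1] 1 [3] ⟨[], 4, []⟩, .split [⟨[], 5, []⟩, ⟨[], 6, []⟩], .merge [1] 1 [1, 5] ⟨[], 7, []⟩]
noncomputable def Y4 : List (List Nat) := [[], [7], [5], [3, 5], [1, 5], [1, 3], [1, 3, 7], [1, 3, 5]]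
noncomputable def E4 : List Fisch.Ent := [.split [⟨[], 0, []⟩, ⟨[], 1, []⟩], .split [⟨[], 2, []⟩, ⟨[], 3, []⟩], .split [⟨[], 4, []⟩, ⟨[], 5, []⟩], .merge [1, 5] 1 [3] ⟨[], 6, []⟩, .dead 1 [3], .merge [1] 1 [] ⟨[], 7, []⟩, .merge [1] 1 [1] ⟨[], 8, []⟩, .split [⟨[], 9, []⟩, ⟨[], 10, []⟩]]
noncomputable def Y5 : List (List Nat) := [[], [9], [7], [7, 9], [5], [5, 9], [3, 5], [1, 3], [1, 3, 7], [1, 3, 5], [1, 3, 5, 9]]
noncomputable def E5 : List Fisch.Ent := [.split [⟨[], 0, []⟩, ⟨[], 1, []⟩], .merge [3] 1 [] ⟨[], 2, []⟩, .merge [1] 1 [1] ⟨[], 3, []⟩, .merge [5] 1 [] ⟨[], 4, []⟩, .merge [9] 1 [] ⟨[], 5, []⟩, .dead 1 [], .split [⟨[], 6, []⟩, ⟨[], 7, []⟩], .dead 1 [], .merge [7] 1 [] ⟨[], 8, []⟩, .merge [7] 1 [] ⟨[], 9, []⟩, .dead 1 [1]]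
noncomputable def Y6 : List (List Nat) := [[], [11], [9], [7], [7, 9], [5], [3, 5], [3, 5, 11], [1, 3, 7], [1, 3, 5]]
noncomputable def E6 : List Fisch.Ent := [.split [⟨[], 0, []⟩, ⟨[], 1, []⟩], .merge [1] 1 [] ⟨[], 2, []⟩, .dead 1 [], .merge [3] 1 [] ⟨[], 3, []⟩, .merge [7] 1 [] ⟨[], 4, []⟩, .dead 1 [], .dead 1 [], .merge [7] 1 [] ⟨[], 5, []⟩, .merge [9] 1 [] ⟨[], 6, []⟩, .merge [5, 9] 1 [] ⟨[], 7, []⟩]
noncomputable def Y7 : List (List Nat) := [[], [13], [11], [7], [7, 9], [3, 5, 11], [1, 3, 7], [1, 3, 5]]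
noncomputable def us : List (List Nat) := [[33], [35], [37], [39], [41], [43]]
noncomputable def a : List Nat := [31]
noncomputable def aT : Tr := (.sym [[1], [3]] (.cons [] 4 24 (.op 4 0 (.focus 0 (.cons [] 0 24 (.base (nat_lit 275279) (.focus 0 (.sym [[5], [7], [9]] (.cons [] 1 4 (.focus 1 (.op 4 0 (.focus 0 (.cons [] 0 4 (.focus 3 (.base (nat_lit 274511) (.focus 0 (.sym [[11]] (.cons [] 3 1 .triv (.cons [4] 3 0 (.op 5 0 (.and 1 0 (.dead0 0))) .nil)))))) .nil)))) (.cons [1] 2 0 (.op 5 0 (.and 1 0 (.dead0 0))) .nil))))) .nil))) (.cons [4] 3 0 (.op 5 0 (.and 1 0 (.dead0 0))) .nil)))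
noncomputable def aTK : List (List Nat) := [[45], [47], [17, 7, 5, 17, 14, 15, 18], [11, 9, 14, 18, 18], [14, 7, 5, 12, 16], [15, 18]]
noncomputable def aTF : List (List Nat) := [[], [1]]
noncomputable def ac : List Lvl := [⟨0, [[45], [47]], 4⟩, ⟨2, [[13, 2, 5, 11, 9, 14, 18], [1, 5, 9, 11, 18, 18]], 1⟩, ⟨1, [[2, 12, 7, 11, 9, 17, 14], [13, 2, 5, 7, 5]], 1⟩, ⟨3, [[8, 2, 18, 7, 11, 9, 14, 16], [2, 2, 13, 7, 11, 9, 11, 18]], 2⟩]
noncomputable def b : List Nat := [49]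
noncomputable def bT : Tr := (.sym [[1], [3]] (.cons [] 4 20 (.op 4 0 (.focus 0 (.cons [] 0 20 (.base (nat_lit 275279) (.focus 0 (.sym [[5], [7], [9]] (.cons [] 1 4 (.focus 1 (.base (nat_lit 275023) (.focus 0 (.op 4 0 (.focus 0 (.sym [[11]] (.cons [] 3 1 (.focus 2 (.focus 1 (.base (nat_lit 274511) (.focus 0 (.op 4 0 (.focus 0 (.cons [] 0 1 .triv (.cons [3] 0 0 (.base (nat_lit 1) (.op 4 4 (.and 1 0 (.dead0 0)))) (.cons [1] 0 0 (.base (nat_lit 1) (.op 4 1 (.and 1 0 (.dead0 0)))) (.cons [1, 4] 0 0 (.base (nat_lit 1) (.op 4 4 (.and 1 0 (.dead0 0)))) (.cons [4, 4] 0 0 (.base (nat_lit 1) (.op 4 4 (.and 1 0 (.dead0 0)))) (.cons [2, 4] 0 0 (.base (nat_lit 1) (.op 4 4 (.and 1 0 (.dead0 0)))) .nil)))))))))))) (.cons [4] 3 0 (.base (nat_lit 12714112) (.op 4 0 (.and 0 1 (.dead0 0)))) .nil)))))))) (.cons [1] 2 0 (.focus 1 (.op 2 0 (.xor 0 1 (.focus 0 (.op 4 2 (.xor 2 0 (.focus 0 (.sym [[7], [9]] (.cons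 [] 1 0 (.focus 6 (.focus 3 (.focus 1 (.xor 4 0 (.focus 0 (.op 4 1 (.xor 6 0 (.focus 0 (.cons [] 0 0 (.base (nat_lit 4) (.and 0 7 (.dead0 0))) (.cons [3] 0 0 (.base (nat_lit 1) (.and 0 3 (.dead0 0))) (.cons [2] 0 0 (.base (nat_lit 1) (.and 0 3 (.dead0 0))) (.cons [4, 4] 0 0 (.base (nat_lit 1) (.and 0 3 (.dead0 0))) (.cons [1, 4] 0 0 (.base (nat_lit 1) (.and 0 3 (.dead0 0))) (.cons [2, 4] 0 0 (.base (nat_lit 1) (.and 0 3 (.dead0 0))) .nil)))))))))))))) (.cons [1] 1 0 (.base (nat_lit 12714112) (.op 4 0 (.and 0 1 (.dead0 0)))) .nil)))))))))) .nil))))) .nil))) .nil))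
noncomputable def bTK : List (List Nat) := [[51], [53], [9, 12, 15], [18, 11, 9, 18, 11, 16, 18], [9, 7, 5, 14, 15], [18, 11, 15]]
noncomputable def bTF : List (List Nat) := [[], [1]]
noncomputable def bc : List Lvl := [⟨0, [[51], [53]], 4⟩, ⟨1, [[11, 9, 18, 11, 18, 18], [2, 2, 7, 7, 9, 14, 15]], 2⟩, ⟨2, [[15, 2, 13, 7, 9, 14, 15], []], 3⟩]
noncomputable def oa : List Nat := [4, 2, 8, 5, 14, 14]
noncomputable def ob : List Nat := [53]
noncomputable def Ei : List Nat × Nat := ([23], 0)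
noncomputable def Ea : List Nat × Nat := ([3], 5)
noncomputable def Eb : List Nat × Nat := ([21], 2)
noncomputable def ya : List (List Nat) := [[8, 11, 2, 5, 7, 14, 14], [14, 7, 5, 12, 16]]
noncomputable def ua : List Nat := [1, 3]
noncomputable def wa : List Nat := [1, 13, 7, 7, 5, 12, 15]
noncomputable def yb : List (List Nat) := [[9, 2, 12, 7, 7, 5, 17, 14], [15, 2, 13, 7, 9, 7, 5, 11, 17]]
noncomputable def ub : List Nat := [1, 3]
noncomputable def wb : List Nat := [18, 7, 17, 7, 5, 18, 11]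
noncomputable def gr : List Nat := [3, 11, 2, 8, 5, 11, 9, 16, 11, 15, 18]
noncomputable def yr : List (List Nat) := [[8, 11, 2, 5, 7, 12, 9, 18, 11, 17], [13, 2, 5, 12, 9, 18, 11, 16, 18]]
noncomputable def ur : List Nat := [1, 3]
noncomputable def xa : List (List Nat) := [[55], [57], [59]]
noncomputable def xT : Tr := (.op 5 0 (.focus 0 (.sym [[1]] (.cons [] 1 1 (.focus 1 (.op 10 0 (.op 16 0 (.focus 0 (.cons [] 0 1 (.focus 2 (.cons [] 0 1 (.op 10 1 (.focus 0 (.cons [] 0 1 (.op 7 0 (.focus 0 (.cons [] 0 1 .triv .nil))) .nil))) .nil)) .nil))))) (.cons [4] 0 0 (.op 11 0 (.and 1 0 (.dead0 0))) (.cons [13, 2] 0 0 (.op 17 0 (.and 1 0 (.dead0 0))) (.cons [4, 2] 1 0 (.base (nat_lit 275295) (.op 41 0 (.and 1 0 (.dead0 0)))) .nil)))))))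
noncomputable def xTK : List (List Nat) := [[31]]
noncomputable def xTF : List (List Nat) := [[], [1], [2], [3], [4], [5], [6], [5, 3], [6, 4], [6, 3], [5, 4], [4, 5], [3, 6], [3, 1], [6, 1], [4, 2], [5, 2], [1, 3], [2, 4], [2, 5], [1, 6]]
noncomputable def xb : List (List Nat) := [[61], [63]]
noncomputable def yT : Tr := (.sym [[1], [3]] (.cons [] 1 1 (.op 4 0 (.focus 0 (.cons [] 0 1 (.op 13 0 (.op 19 0 (.focus 0 (.cons [] 0 1 (.op 13 0 (.focus 0 (.cons [] 0 1 (.op 10 7 (.focus 0 (.cons [] 0 1 .triv .nil))) .nil))) .nil)))) .nil))) (.cons [2] 1 0 (.op 5 0 (.and 1 0 (.dead0 0))) (.cons [4] 1 0 (.op 5 0 (.and 1 0 (.dead0 0))) (.cons [3] 1 0 (.op 5 0 (.and 1 0 (.dead0 0))) (.cons [20, 2] 1 0 (.op 5 0 (.and 1 0 (.dead0 0))) (.cons [11, 4] 1 0 (.op 5 0 (.and 1 0 (.dead0 0))) .nil)))))))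
noncomputable def yTK : List (List Nat) := [[49], [3, 1, 13, 7, 17, 14, 18, 18]]
noncomputable def yTF : List (List Nat) := [[], [5, 3], [6, 3], [5, 4], [6, 4], [3, 5], [4, 5], [3, 6], [4, 6], [3, 5, 3], [3, 6, 3], [4, 5, 4], [4, 6, 4], [5, 3, 5], [5, 4, 5], [6, 3, 6], [6, 4, 6], [6, 3, 5, 3], [5, 4, 5, 3], [5, 3, 6, 3], [6, 4, 6, 3]]
noncomputable def zb : List (List Nat) := [[], [49], [3, 1, 13, 7, 17, 14, 18, 18], [3, 11, 2, 7, 18, 11, 9, 11, 16, 18]]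
noncomputable def Eg : List Nat × Nat := ([7], 2)
noncomputable def c2 : List Nat := [65]
noncomputable def c2E : List Nat × Nat := ([13], 1)
noncomputable def c2g : List Nat := [9, 2, 8, 5, 11, 9, 16, 14, 16]
noncomputable def c2x : List (List Nat) := [[8, 2, 12, 7, 7, 5, 15, 18], [9, 2, 5, 7, 11, 9, 14, 14, 18]]
noncomputable def c2u : List Nat := [1, 3]
noncomputable def c2h : List Nat := [1, 1, 12, 7, 16, 7, 5, 14, 14, 18, 18]
noncomputable def Ts : List To := [⟨[], 0, []⟩, ⟨[], 1, []⟩, ⟨[2, 12, 7, 16, 14, 18, 18], 1, []⟩, ⟨[1, 5, 18, 11], 1, []⟩, ⟨[8, 4, 11, 18, 18], 2, []⟩, ⟨[15, 2, 16], 2, []⟩, ⟨[8, 9, 7, 14, 16], 1, []⟩, ⟨[3, 11, 2, 12, 7, 7, 5, 14], 3, []⟩]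
noncomputable def β : List Nat := [11, 9, 3, 6, 7, 3]
noncomputable def θ : List Nat := [67]
noncomputable def y : List Nat := [17, 7, 5, 17, 14]
noncomputable def σ1 : List Nat := [13, 2, 5, 12, 9, 18, 11, 18, 18]
noncomputable def χ1 : List Nat := [35]
noncomputable def gσ : List Nat := [16, 4, 8, 9, 7, 17, 7, 5, 15, 18]
noncomputable def xy : List (List Nat) := [[2, 12, 7, 17, 7, 5, 18, 11, 16], [59]]
noncomputable def uy : List Nat := [1, 3]
noncomputable def σ : List Nat := [7, 11, 7, 1]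
noncomputable def χ : List Nat := [3]
noncomputable def χ2 : List Nat := [11, 6, 7, 3, 9, 3, 11, 4, 1]
noncomputable def γ : List Nat := [6]
noncomputable def dT : Tr := (.sym [[1], [3], [5]] (.cons [] 2 1 (.op 4 0 (.focus 0 (.cons [] 0 1 (.op 10 0 (.focus 0 (.cons [] 0 1 (.op 4 0 (.focus 0 (.cons [] 0 1 (.base (nat_lit 274511) (.focus 0 (.op 10 0 (.focus 0 (.cons [] 0 1 .triv (.cons [4] 0 0 (.op 5 0 (.and 1 0 (.dead0 0))) (.cons [3] 0 0 (.op 5 0 (.and 1 0 (.dead0 0))) (.cons [1] 0 0 (.op 5 0 (.and 1 0 (.dead0 0))) (.cons [2] 0 0 (.op 5 0 (.and 1 0 (.dead0 0))) (.cons [4, 4] 0 0 (.base (nat_lit 1) (.op 8 0 (.and 1 0 (.dead0 0)))) .nil)))))))))) .nil))) .nil))) .nil))) (.cons [2] 1 0 (.op 8 0 (.and 1 0 (.dead0 0))) (.cons [4] 2 0 (.op 5 0 (.and 1 0 (.dead0 0))) (.cons [20, 2] 1 0 (.op 5 0 (.and 1 0 (.dead0 0))) .nil)))))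
noncomputable def dTK : List (List Nat) := [[31], [67], [3, 5, 7, 12, 9, 14, 14, 16]]
noncomputable def dTF : List (List Nat) := [[], [1], [3], [4], [3, 1], [4, 1]]
noncomputable def zs : List (List Nat) := [[], [31], [67], [3, 5, 7, 12, 9, 14, 14, 16], [13, 2, 5, 17, 7, 5, 17, 14, 17], [3, 2, 7, 7, 9, 14, 16], [8, 11, 2, 5, 7, 14, 14, 18, 18], [16, 4, 18, 7, 16, 7, 5, 14, 14, 15, 18], [2, 2, 13, 7, 7, 5, 14, 18], [8, 4, 18, 7, 7, 5, 11, 15, 18], [4, 2, 8, 5, 7, 5, 17], [3, 11, 2, 13, 7, 14, 7, 5, 16]]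
noncomputable def ys : List (List Nat) := [[], [4, 2, 8, 5, 7, 5, 17], [13, 2, 5, 17, 7, 5, 17, 14, 17], [], [67], [], [3, 5, 7, 12, 9, 14, 14, 16], [], [3, 2, 7, 7, 9, 14, 16], [], [], []]
noncomputable def cH : List Lvl := [⟨16, [[35], [2, 2, 13, 7, 11, 9, 11, 18], [13, 2, 5, 12, 9, 18, 11, 18, 18], [13, 2, 5, 7, 5], [16, 7, 5, 17, 14, 18, 18]], 2⟩, ⟨20, [[9], [55], [16, 18]], 2⟩, ⟨8, [[9], [11, 9, 14]], 1⟩]
noncomputable def hs : List (List Nat) := [[3], [6, 1], [7, 11, 7, 1], [9, 5, 9, 1], [5, 11, 5, 11]]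
noncomputable def vs : List (List Nat) := [[1], [3], [5], [7], [9], [7, 5], [3, 5, 9, 7, 5], [7, 9, 1, 5], [7, 5], [3, 5]]
noncomputable def Es_0 : List (List Nat × Nat) := [([], 0), ([], 0), ([], 0), ([], 0), ([55], 0), ([59], 0), ([13, 4, 7, 16, 11, 18], 0), ([3, 1, 16, 7, 5, 12], 0), ([], 0), ([], 0), ([], 0), ([], 0), ([], 0), ([], 0), ([], 0), ([], 0), ([], 1), ([3], 1), ([2], 5), ([15], 1)]
noncomputable def Es_1 : List (List Nat × Nat) := [([1, 1], 2), ([2], 1), ([8], 1), ([21], 1), ([1, 1], 1), ([], 5), ([15], 5), ([21], 1), ([19], 1), ([], 1), ([3], 1), ([8], 2), ([8], 1), ([1, 1], 2), ([2], 2), ([3], 2), ([1], 1), ([11], 2), ([8], 1), ([23], 2)]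
noncomputable def Es_2 : List (List Nat × Nat) := [([1], 1), ([], 2), ([2], 2), ([], 5), ([], 2), ([2], 1), ([1, 1], 1), ([], 2), ([], 0), ([27], 0), ([], 0), ([], 0), ([67], 0), ([57], 0), ([], 0), ([], 0), ([], 0), ([], 0), ([3, 1, 9, 17, 14, 16], 0), ([21], 0)]
noncomputable def Es_3 : List (List Nat × Nat) := [([45], 0), ([19], 0), ([], 0), ([], 0), ([3], 2), ([3], 2), ([11], 2), ([1, 1], 2), ([], 5), ([11], 2), ([2], 1), ([21], 2), ([19], 5), ([], 5), ([], 5), ([2], 2), ([], 2), ([], 2), ([15], 2), ([8], 1)]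
noncomputable def Es_4 : List (List Nat × Nat) := [([], 0), ([], 0), ([], 0), ([], 0), ([], 0), ([], 0), ([], 0), ([], 0), ([], 0), ([], 0), ([], 0), ([], 0), ([], 0), ([], 0), ([], 0), ([], 0), ([4, 18, 7, 18, 11], 0), ([8, 2, 18, 7], 0), ([9, 4, 18, 7, 18, 11], 0), ([1, 5, 11, 15], 0)]
noncomputable def Es_5 : List (List Nat × Nat) := [([1, 1, 12, 7, 9, 11], 0), ([3, 5, 7, 18, 11, 16], 0), ([3, 1, 17, 14], 0), ([13, 2, 5, 9, 14, 14], 0), ([], 0), ([], 0), ([], 0), ([], 0), ([], 0), ([], 0), ([], 0), ([], 0), ([], 0), ([], 0), ([], 0), ([], 0), ([11], 1), ([1], 1), ([37], 2), ([1], 2)]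
noncomputable def Es_6 : List (List Nat × Nat) := [([1], 5), ([2], 1), ([1, 1], 2), ([11], 1), ([], 0), ([], 0), ([], 0), ([], 0)]
noncomputable def Es : List (List Nat × Nat) := lapp Es_0 (lapp Es_1 (lapp Es_2 (lapp Es_3 (lapp Es_4 (lapp Es_5 (Es_6))))))

end CF.Ec.M12
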